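import Groth.Agent.Res31.WeilDiff

/-! The residue pairing onto Weil differentials. -/

namespace Groth.Agent.Res31

open FunFld WithZero Exp31
open scoped LaurentSeries

universe u v w

variable {k : Type u} {K : Type v} [Field k] [Field K] [Algebra k K] {F : Place k K → Type w}
  [∀ P, Field (F P)] [∀ P, Algebra k (F P)]
  {φ : ∀ P, K →ₐ[k] LaurentSeries (F P)}

/-- `u ↦` the Weil differential of `u dv`. -/
noncomputable def resWL (hK : IsFunctionField k K) (hφ : ∀ P, LocRes.IsExpansionAt P.1 (φ P)) (v : K) :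
    K →ₗ[k] Module.Dual k (adele k K) where
  toFun u := resW hK hφ u v
  map_add' u u' := LinearMap.ext fun a => by
    rw [LinearMap.add_apply, resW_apply, resW_apply, resW_apply,
      ← finsum_add_distrib (finite_locRes_ne_zero hK hφ (mul_mem_adele hK u a) v)
        (finite_locRes_ne_zero hK hφ (mul_mem_adele hK u' a) v)]
    exact finsum_congr fun P => by rw [← locRes_add, ← mul_add]
  map_smul' c u := LinearMap.ext fun a => by
    rw [RingHom.id_apply, LinearMap.smul_apply, resW_apply, resW_apply, smul_eq_mul,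
      mul_finsum' _ _ (finite_locRes_ne_zero hK hφ (mul_mem_adele hK u a) v)]
    exact finsum_congr fun P => by rw [← locRes_smul, mul_smul_comm]

theorem resWL_apply (hK : IsFunctionField k K) (hφ : ∀ P, LocRes.IsExpansionAt P.1 (φ P)) (v u : K) :
    resWL hK hφ v u = resW hK hφ u v := rfl

theorem mulW_resW (hK : IsFunctionField k K) (hφ : ∀ P, LocRes.IsExpansionAt P.1 (φ P)) (x : K)
    (hx : ∀ a ∈ adele k K, x • a ∈ adele k K) (v : K) :
    mulW x hx (resW hK hφ 1 v) = resW hK hφ x v := LinearMap.ext fun a => by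
  rw [FF30.mulW_apply, resW_apply, resW_apply]
  refine finsum_congr fun P => ?_
  rw [mul_one, mul_comm]
  rfl

variable [∀ P, FiniteDimensional k (F P)]

theorem resWL_injective (hK : IsFunctionField k K) (hg : IsGeometric k K)
    (hφ : ∀ P, LocRes.IsExpansionAt P.1 (φ P)) {v : K} (hv : KaehlerDifferential.D k K v ≠ 0) :
    Function.Injective (resWL hK hφ v) := by
  refine (injective_iff_map_eq_zero _).2 fun u hu => ?_
  by_contra h0
  obtain ⟨C, -, -, hne⟩ := exists_weil hK hg hφ h0 hv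
  exact hne hu

theorem exists_resW_eq (hK : IsFunctionField k K) (hg : IsGeometric k K)
    (hφ : ∀ P, LocRes.IsExpansionAt P.1 (φ P)) {v : K} (hv : KaehlerDifferential.D k K v ≠ 0)
    {ω : Module.Dual k (adele k K)} (hω : IsWeil ω) : ∃ u, resW hK hφ u v = ω := by
  obtain ⟨C, hC, hW, hne⟩ := exists_weil hK hg hφ (u := 1) one_ne_zero hv
  obtain ⟨x, hx, hxe⟩ := FF30.exists_mulW_eq' hK hW hne hω
  exact ⟨x, (mulW_resW hK hφ x hx v).symm.trans hxe⟩

theorem existsUnique_resW (hK : IsFunctionField k K) (hg : IsGeometric k K)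
    (hφ : ∀ P, LocRes.IsExpansionAt P.1 (φ P)) {v : K} (hv : KaehlerDifferential.D k K v ≠ 0)
    {ω : Module.Dual k (adele k K)} (hω : IsWeil ω) :
    ∃! u : K, ∀ a : adele k K,
      (Function.support fun P => LocRes.locRes (φ P) ((a : Place k K → K) P * u) v).Finite ∧
        ω a = ∑ᶠ P, LocRes.locRes (φ P) ((a : Place k K → K) P * u) v := by
  obtain ⟨u, hu⟩ := exists_resW_eq hK hg hφ hv hω
  refine ⟨u, fun a => ⟨finite_locRes_ne_zero hK hφ (mul_mem_adele hK u a) v, by rw [← hu]; rfl⟩,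
    fun u' hu' => resWL_injective hK hg hφ hv ?_⟩
  rw [resWL_apply, resWL_apply, hu]
  exact LinearMap.ext fun a => (hu' a).2.symm

theorem regular_iff (hK : IsFunctionField k K) (hg : IsGeometric k K)
    (hφ : ∀ P, LocRes.IsExpansionAt P.1 (φ P)) {v : K} (hv : KaehlerDifferential.D k K v ≠ 0)
    (D : Divisor k K) (y : K) :
    (∀ P, LocRes.vDiff (φ P) y v ≤ exp (-(D P))) ↔ resWL hK hφ v y ∈ WD D := by
  rcases eq_or_ne y 0 with rfl | hy
  · simp [LocRes.vDiff]
  · obtain ⟨C, hC, -, -⟩ := exists_weil hK hg hφ hy hv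
    rw [resWL_apply, isDivOf_resW hK hg hφ hy hv hC D]
    refine forall_congr' fun P => ?_
    rw [hC P, LocRes.ordDiff]
    conv_lhs => rw [← exp_log (vDiff_ne_zero hK hg hφ hy hv P), exp_le_exp]
    omega

theorem span_regular (hK : IsFunctionField k K) (hg : IsGeometric k K)
    (hφ : ∀ P, LocRes.IsExpansionAt P.1 (φ P)) {v : K} (hv : KaehlerDifferential.D k K v ≠ 0)
    (D : Divisor k K) :
    Submodule.span k {y : K | ∀ P, LocRes.vDiff (φ P) y v ≤ exp (-(D P))} =
      (WD D).comap (resWL hK hφ v) := by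
  rw [show {y : K | ∀ P, LocRes.vDiff (φ P) y v ≤ exp (-(D P))} =
    (((WD D).comap (resWL hK hφ v) : Submodule k K) : Set K) from
      Set.ext fun y => regular_iff hK hg hφ hv D y, Submodule.span_eq]

theorem finrank_regular (hK : IsFunctionField k K) (hg : IsGeometric k K)
    (hφ : ∀ P, LocRes.IsExpansionAt P.1 (φ P)) {v : K} (hv : KaehlerDifferential.D k K v ≠ 0)
    (D : Divisor k K) :
    Module.finrank k (Submodule.span k {y : K | ∀ P, LocRes.vDiff (φ P) y v ≤ exp (-(D P))}) =
      Module.finrank k (WD D) := by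
  rw [span_regular hK hg hφ hv D]
  have hmap : ((WD D).comap (resWL hK hφ v)).map (resWL hK hφ v) = WD D :=
    Submodule.map_comap_eq_self fun ω hω => by
      obtain ⟨u, hu⟩ := exists_resW_eq hK hg hφ hv ⟨D, hω⟩
      exact ⟨u, hu⟩
  have h := (Submodule.equivMapOfInjective _ (resWL_injective hK hg hφ hv)
    ((WD D).comap (resWL hK hφ v))).finrank_eq
  rw [h, hmap]

theorem finrank_WD_zero (hK : IsFunctionField k K) :
    Module.finrank k (WD (0 : Divisor k K)) = genus k K := by
  have h := (FF30.finite_WD hK (0 : Divisor k K)).2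
  rw [FF30.delta, FF30.ell_zero hK, FF30.deg_zero] at h
  omega

theorem finrank_regular_zero (hK : IsFunctionField k K) (hg : IsGeometric k K)
    (hφ : ∀ P, LocRes.IsExpansionAt P.1 (φ P)) {v : K} (hv : KaehlerDifferential.D k K v ≠ 0) :
    Module.finrank k (Submodule.span k {y : K | ∀ P, LocRes.vDiff (φ P) y v ≤ 1}) = genus k K := by
  rw [← finrank_WD_zero hK, ← finrank_regular hK hg hφ hv 0]
  simp only [Finsupp.coe_zero, Pi.zero_apply, neg_zero, exp_zero]
  rfl

theorem deg_eq_two_genus (hK : IsFunctionField k K) (hg : IsGeometric k K)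
    (hφ : ∀ P, LocRes.IsExpansionAt P.1 (φ P)) {u v : K} (hu : u ≠ 0)
    (hv : KaehlerDifferential.D k K v ≠ 0) {C : Divisor k K}
    (hC : ∀ P, C P = LocRes.ordDiff (φ P) u v) : C.deg = 2 * (genus k K : ℤ) - 2 := by
  obtain ⟨C', hC', hW, hne⟩ := exists_weil hK hg hφ hu hv
  exact FF30.deg_canonical hK ⟨_, hne, isDivOf_resW hK hg hφ hu hv hC⟩

theorem elliptic_differential (hK : IsFunctionField k K) (hg : IsGeometric k K) (h1 : genus k K = 1)
    (hφ : ∀ P, LocRes.IsExpansionAt P.1 (φ P)) {v : K} (hv : KaehlerDifferential.D k K v ≠ 0) :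
    (∃ u : K, u ≠ 0 ∧ ∀ P, LocRes.vDiff (φ P) u v = 1) ∧
      ∀ u u' : K, u ≠ 0 → (∀ P, LocRes.vDiff (φ P) u v = 1) → (∀ P, LocRes.vDiff (φ P) u' v = 1) →
        ∃ c : k, u' = c • u := by
  set S := {y : K | ∀ P, LocRes.vDiff (φ P) y v ≤ 1} with hS
  have hdim : Module.finrank k (Submodule.span k S) = 1 := (finrank_regular_zero hK hg hφ hv).trans h1
  have hF : FF30.FF k K := hK.1
  constructor
  · obtain ⟨⟨u, hu⟩, hu0, -⟩ := finrank_eq_one_iff'.1 hdim
    have hu0' : u ≠ 0 := fun h => hu0 (Subtype.ext h)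
    have hu' : ∀ P, LocRes.vDiff (φ P) u v ≤ 1 := by
      have hspan := span_regular hK hg hφ hv 0
      simp only [Finsupp.coe_zero, Pi.zero_apply, neg_zero, exp_zero] at hspan
      rw [← hS] at hspan
      rw [hspan] at hu
      simpa using (regular_iff hK hg hφ hv 0 u).2 hu
    obtain ⟨C, hC, -, -⟩ := exists_weil hK hg hφ hu0' hv
    have hnn : ∀ P, 0 ≤ C P := fun P => by
      have := hu' P
      rw [← exp_log (vDiff_ne_zero hK hg hφ hu0' hv P), ← exp_zero, exp_le_exp] at this
      rw [hC P, LocRes.ordDiff]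
      omega
    have hdeg := deg_eq_two_genus hK hg hφ hu0' hv hC
    rw [h1] at hdeg
    have hzero : ∀ P, C P = 0 := fun P => by
      by_contra hne
      have hs : P ∈ C.support := Finsupp.mem_support_iff.2 hne
      have h2 : C P * (P.deg : ℤ) ≤ C.deg :=
        Finset.single_le_sum (f := fun Q => C Q * (Q.deg : ℤ))
          (fun Q _ => mul_nonneg (hnn Q) (Int.natCast_nonneg _)) hs
      have h3 := hF.deg_pos P
      have h4 : 0 < C P * (P.deg : ℤ) := mul_pos (lt_of_le_of_ne (hnn P) (Ne.symm hne)) (by exact_mod_cast h3)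
      push_cast at hdeg
      omega
    refine ⟨u, hu0', fun P => ?_⟩
    have := hzero P
    rw [hC P, LocRes.ordDiff, neg_eq_zero] at this
    rw [← exp_log (vDiff_ne_zero hK hg hφ hu0' hv P), this, exp_zero]
  · intro u u' hu hu1 hu2
    have m : ∀ y, (∀ P, LocRes.vDiff (φ P) y v = 1) → y ∈ Submodule.span k S := fun y hy =>
      Submodule.subset_span fun P => (hy P).le
    have hne : (⟨u, m u hu1⟩ : Submodule.span k S) ≠ 0 := fun h => hu (congrArg Subtype.val h)
    obtain ⟨c, hc⟩ := (finrank_eq_one_iff_of_nonzero' _ hne).1 hdim ⟨u', m u' hu2⟩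
    exact ⟨c, (congrArg Subtype.val hc).symm⟩

end Groth.Agent.Res31
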