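import Mathlib.LinearAlgebra.PID
import Mathlib.LinearAlgebra.FiniteDimensional.Lemmas
import Mathlib.LinearAlgebra.Trace

/-! Traces of endomorphisms of finite rank. -/

namespace Groth.Agent.Res31

open LinearMap

variable {k U V W : Type*} [Field k] [AddCommGroup U] [Module k U] [AddCommGroup V] [Module k V]
  [AddCommGroup W] [Module k W]

/-- A linear map with finite-dimensional range. -/
def FinRank (T : U →ₗ[k] V) : Prop := FiniteDimensional k (LinearMap.range T)

theorem FinRank.of_range_le {T : U →ₗ[k] V} {p : Submodule k V} [FiniteDimensional k p]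
    (h : LinearMap.range T ≤ p) : FinRank T :=
  Submodule.finiteDimensional_of_le h

theorem FinRank.of_forall_mem {T : U →ₗ[k] V} {p : Submodule k V} [FiniteDimensional k p]
    (h : ∀ x, T x ∈ p) : FinRank T :=
  .of_range_le (by rintro _ ⟨x, rfl⟩; exact h x)

theorem finRank_zero : FinRank (0 : U →ₗ[k] V) :=
  .of_forall_mem (p := ⊥) fun x => by simp

theorem FinRank.add {S T : U →ₗ[k] V} (hS : FinRank S) (hT : FinRank T) : FinRank (S + T) :=
  haveI : FiniteDimensional k (range S) := hS
  haveI : FiniteDimensional k (range T) := hT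
  .of_forall_mem (p := range S ⊔ range T) fun x =>
    Submodule.add_mem_sup (mem_range_self S x) (mem_range_self T x)

theorem FinRank.neg {T : U →ₗ[k] V} (hT : FinRank T) : FinRank (-T) :=
  haveI : FiniteDimensional k (range T) := hT
  .of_forall_mem (p := range T) fun x => Submodule.neg_mem _ (mem_range_self T x)

theorem FinRank.sub {S T : U →ₗ[k] V} (hS : FinRank S) (hT : FinRank T) : FinRank (S - T) :=
  sub_eq_add_neg S T ▸ hS.add hT.neg

theorem FinRank.smul (c : k) {T : U →ₗ[k] V} (hT : FinRank T) : FinRank (c • T) :=
  haveI : FiniteDimensional k (range T) := hT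
  .of_forall_mem (p := range T) fun x => Submodule.smul_mem _ c (mem_range_self T x)

theorem FinRank.sum {ι : Type*} (s : Finset ι) {T : ι → U →ₗ[k] V} (h : ∀ i ∈ s, FinRank (T i)) :
    FinRank (∑ i ∈ s, T i) := by
  classical
  induction s using Finset.induction_on with
  | empty => simpa using finRank_zero
  | insert i s hi ih =>
    rw [Finset.sum_insert hi]
    exact (h i (Finset.mem_insert_self i s)).add (ih fun j hj => h j (Finset.mem_insert_of_mem hj))

theorem FinRank.comp_left {T : U →ₗ[k] V} (hT : FinRank T) (S : V →ₗ[k] W) : FinRank (S ∘ₗ T) :=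
  haveI : FiniteDimensional k (range T) := hT
  .of_forall_mem (p := (range T).map S) fun x => Submodule.mem_map_of_mem (mem_range_self T x)

theorem FinRank.comp_right {S : V →ₗ[k] W} (hS : FinRank S) (T : U →ₗ[k] V) : FinRank (S ∘ₗ T) :=
  haveI : FiniteDimensional k (range S) := hS
  .of_forall_mem (p := range S) fun x => mem_range_self S (T x)

theorem FinRank.mul_left {T : Module.End k V} (hT : FinRank T) (S : Module.End k V) : FinRank (S * T) :=
  FinRank.comp_left hT S

theorem FinRank.mul_right {S : Module.End k V} (hS : FinRank S) (T : Module.End k V) : FinRank (S * T) :=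
  FinRank.comp_right hS T

open scoped Classical in
/-- The trace of an endomorphism of finite rank (`0` otherwise). -/
noncomputable def tr (T : Module.End k V) : k :=
  if h : FinRank T then
    haveI : FiniteDimensional k (range T) := h
    trace k (range T) (T.restrict fun x _ => mem_range_self T x)
  else 0

theorem tr_eq {T : Module.End k V} (p : Submodule k V) [FiniteDimensional k p] (h : ∀ x, T x ∈ p) :
    tr T = trace k p (T.restrict fun x _ => h x) := by
  have hT : FinRank T := .of_forall_mem h
  have : FiniteDimensional k (range T) := hT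
  rw [tr, dif_pos hT]
  have hle : range T ≤ p := by rintro _ ⟨x, rfl⟩; exact h x
  let e := Submodule.comapSubtypeEquivOfLe hle
  rw [← trace_restrict_eq_of_forall_mem ((range T).comap p.subtype) (T.restrict fun x _ => h x)
    (fun x => by exact mem_range_self T x.1)]
  rw [← trace_conj' _ e]
  rfl

theorem tr_add {S T : Module.End k V} (hS : FinRank S) (hT : FinRank T) : tr (S + T) = tr S + tr T := by
  have : FiniteDimensional k (range S) := hS
  have : FiniteDimensional k (range T) := hT
  let p := range S ⊔ range T
  have h1 : ∀ x, S x ∈ p := fun x => Submodule.mem_sup_left (mem_range_self S x)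
  have h2 : ∀ x, T x ∈ p := fun x => Submodule.mem_sup_right (mem_range_self T x)
  rw [tr_eq p h1, tr_eq p h2, tr_eq p (T := S + T) (fun x => add_mem (h1 x) (h2 x)), ← map_add]
  rfl

theorem tr_smul (c : k) {T : Module.End k V} (hT : FinRank T) : tr (c • T) = c * tr T := by
  have : FiniteDimensional k (range T) := hT
  rw [tr_eq (range T) (T := c • T) (fun x => Submodule.smul_mem _ c (mem_range_self T x)),
    tr_eq (range T) (T := T) (mem_range_self T), ← smul_eq_mul, ← map_smul]
  rfl

theorem tr_zero : tr (0 : Module.End k V) = 0 := by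
  rw [tr_eq (⊥ : Submodule k V) (T := 0) (fun x => by simp)]
  exact (congrArg _ (LinearMap.ext fun x => Subsingleton.elim _ _)).trans (map_zero _)

theorem tr_neg {T : Module.End k V} (hT : FinRank T) : tr (-T) = -tr T := by
  rw [← neg_one_smul k T, tr_smul _ hT]; ring

theorem tr_sub {S T : Module.End k V} (hS : FinRank S) (hT : FinRank T) : tr (S - T) = tr S - tr T := by
  rw [sub_eq_add_neg, tr_add hS hT.neg, tr_neg hT, sub_eq_add_neg]

theorem tr_sum {ι : Type*} (s : Finset ι) {T : ι → Module.End k V} (h : ∀ i ∈ s, FinRank (T i)) :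
    tr (∑ i ∈ s, T i) = ∑ i ∈ s, tr (T i) := by
  classical
  induction s using Finset.induction_on with
  | empty => simp [tr_zero]
  | insert i s hi ih =>
    rw [Finset.sum_insert hi, Finset.sum_insert hi,
      tr_add (h i (Finset.mem_insert_self i s)) (FinRank.sum s fun j hj => h j (Finset.mem_insert_of_mem hj)),
      ih fun j hj => h j (Finset.mem_insert_of_mem hj)]

/-- Cyclicity, one factor being of finite rank. -/
theorem tr_comp_comm (S : U →ₗ[k] V) (T : V →ₗ[k] U) (hT : FinRank T) :
    tr (S ∘ₗ T) = tr (T ∘ₗ S) := by
  have : FiniteDimensional k (range T) := hT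
  rw [tr_eq ((range T).map S) (T := S ∘ₗ T) (fun x => Submodule.mem_map_of_mem (mem_range_self T x)),
    tr_eq (range T) (T := T ∘ₗ S) (fun x => mem_range_self T (S x))]
  let S' : range T →ₗ[k] (range T).map S := S.restrict fun x hx => Submodule.mem_map_of_mem hx
  let T' : (range T).map S →ₗ[k] range T := T.restrict fun x _ => mem_range_self T x
  exact trace_comp_comm' T' S'

theorem tr_comp_comm' (S : U →ₗ[k] V) (T : V →ₗ[k] U) (hS : FinRank S) :
    tr (S ∘ₗ T) = tr (T ∘ₗ S) :=
  (tr_comp_comm T S hS).symm

theorem tr_mul_comm (S T : Module.End k V) (h : FinRank S ∨ FinRank T) : tr (S * T) = tr (T * S) := by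
  rcases h with h | h
  · exact tr_comp_comm' S T h
  · exact tr_comp_comm S T h

/-- In finite dimension it is the usual trace. -/
theorem tr_eq_trace [FiniteDimensional k V] (T : Module.End k V) : tr T = trace k V T := by
  rw [tr_eq (range T) (mem_range_self T), trace_restrict_eq_of_forall_mem _ T (mem_range_self T)]

end Groth.Agent.Res31
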