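import Groth.Agent.Res31.Local
import Groth.Agent.FF30.Riemann
import Groth.Agent.FF30.RR
import Groth.Agent.FF30.Approx
import Groth.Agent.FF30.IntClosure
import Mathlib.Data.Set.Finite.Lemmas
import Mathlib.RingTheory.Trace.Basic

/-! The residue theorem and the trace formula. -/

namespace Groth.Agent.Res31

open FunFld WithZero Exp31 LinearMap
open scoped LaurentSeries

universe u v w

variable {k : Type u} {K : Type v} [Field k] [Field K] [Algebra k K]

theorem resExp_eq_zero {F : Type*} [Field F] [Algebra k F] {P : Place k K} {φ : K →ₐ[k] F⸨X⸩}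
    (hφ : LocRes.IsExpansionAt P.1 φ) {u v : K} (hu : P.1 u ≤ 1) (hv : P.1 v ≤ 1) :
    LocRes.resExp φ u v = 0 := by
  have hv' : ∀ i : ℤ, i < 0 → (φ v).coeff i = 0 :=
    val_le_iff.1 (by rwa [hφ.1, neg_zero, exp_zero])
  show (φ u * LocRes.D F (φ v)).coeff (-1) = 0
  rw [coeff_mul_Icc (a := 0) (b := 0) (val_le_iff.1 (by rwa [hφ.1, neg_zero, exp_zero])) fun i hi => ?_,
    Finset.Icc_eq_empty (by omega), Finset.sum_empty]
  rw [LocRes.D_coeff]
  rcases eq_or_ne i (-1) with rfl | hne
  · simp
  · rw [hv' _ (by omega), smul_zero]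

theorem finite_poles (hK : IsFunctionField k K) (v : K) : {P : Place k K | ¬ P.1 v ≤ 1}.Finite := by
  refine ((show FF30.FF k K from hK.1).finite_support_ord v).subset fun P hP => ?_
  simp only [Set.mem_setOf_eq, FF30.val_le_one_iff] at hP
  simp only [Function.mem_support]
  omega

theorem finite_resExp_ne_zero (hK : IsFunctionField k K) {F : Place k K → Type w} [∀ P, Field (F P)]
    [∀ P, Algebra k (F P)] {φ : ∀ P, K →ₐ[k] LaurentSeries (F P)}
    (hφ : ∀ P, LocRes.IsExpansionAt P.1 (φ P)) {a : Place k K → K} (ha : a ∈ adele k K) (v : K) :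
    {P : Place k K | LocRes.resExp (φ P) (a P) v ≠ 0}.Finite :=
  ((Filter.eventually_cofinite.1 ha).union (finite_poles hK v)).subset fun P hP => by
    by_contra h
    simp only [Set.mem_union, Set.mem_setOf_eq, not_or, not_not] at h
    exact hP (resExp_eq_zero (hφ P) h.1 h.2)

theorem finite_locRes_ne_zero (hK : IsFunctionField k K) {F : Place k K → Type w} [∀ P, Field (F P)]
    [∀ P, Algebra k (F P)] {φ : ∀ P, K →ₐ[k] LaurentSeries (F P)}
    (hφ : ∀ P, LocRes.IsExpansionAt P.1 (φ P)) {a : Place k K → K} (ha : a ∈ adele k K) (v : K) :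
    (Function.support fun P => LocRes.locRes (φ P) (a P) v).Finite :=
  (finite_resExp_ne_zero hK hφ ha v).subset fun P hP h0 => hP (by
    show Algebra.trace k (F P) (LocRes.resExp (φ P) (a P) v) = 0
    rw [h0, map_zero])

theorem diag_mem_adele (hK : IsFunctionField k K) (u : K) : (fun _ => u) ∈ adele k K :=
  Filter.eventually_cofinite.2 (finite_poles hK u)

theorem finite_quot_sup (hK : IsFunctionField k K) (S : Finset (Place k K))
    {A B : Submodule k (S → K)} (hA : ∀ z : S → K, (∀ P : S, P.1.1 (z P) ≤ 1) → z ∈ A)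
    (hB : ∀ x : K, (∀ P ∉ S, P.1 x ≤ 1) → (fun _ => x) ∈ B) :
    FiniteDimensional k ((S → K) ⧸ (A ⊔ B)) := by
  classical
  let e : (S → K) →ₗ[k] (Place k K → K) :=
    { toFun := fun z P => if hP : P ∈ S then z ⟨P, hP⟩ else 0
      map_add' := fun a b => funext fun P => by simp only [Pi.add_apply]; split <;> simp
      map_smul' := fun c a => funext fun P => by
        simp only [Pi.smul_apply, RingHom.id_apply]; split <;> simp }
  have he : ∀ z, e z ∈ adele k K := fun z =>
    Filter.eventually_cofinite.2 (S.finite_toSet.subset fun P hP => by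
      by_contra hn
      refine hP ?_
      simp [e, show P ∉ S from hn])
  have hq := (FF30.adele_quotient_ADK hK (0 : Divisor k K)).1
  let T := (ADK (0 : Divisor k K)).comap (e.codRestrict _ he)
  let j : ((S → K) ⧸ T) →ₗ[k] (adele k K ⧸ ADK (0 : Divisor k K)) :=
    T.mapQ _ (e.codRestrict _ he) le_rfl
  have hj : Function.Injective j := by
    rw [← LinearMap.ker_eq_bot, eq_bot_iff]
    intro z hz
    obtain ⟨z, rfl⟩ := Submodule.Quotient.mk_surjective _ z
    rw [LinearMap.mem_ker, Submodule.mapQ_apply, Submodule.Quotient.mk_eq_zero] at hz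
    rw [Submodule.mem_bot, Submodule.Quotient.mk_eq_zero]
    exact hz
  have : FiniteDimensional k ((S → K) ⧸ T) := Module.Finite.of_injective j hj
  have hle : T ≤ A ⊔ B := by
    intro z hz
    have hz' : e z ∈ AD (0 : Divisor k K) ⊔ range (diag k K) := hz
    obtain ⟨a, ha, _, ⟨x, rfl⟩, hax⟩ := Submodule.mem_sup.1 hz'
    have ha' : ∀ P : Place k K, P.1 (a P) ≤ 1 := fun P => by simpa using ha P
    have hax' : ∀ P : Place k K, a P + x = if hP : P ∈ S then z ⟨P, hP⟩ else 0 := fun P => congrFun hax P
    have hz2 : z = (fun P : S => a P.1) + fun _ => x := funext fun P => by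
      have := hax' P.1
      rw [dif_pos P.2] at this
      exact this.symm
    rw [hz2]
    refine Submodule.add_mem_sup (hA _ fun P => ha' P.1) (hB x fun P hP => ?_)
    have := hax' P
    rw [dif_neg hP, add_eq_zero_iff_eq_neg] at this
    have h' := ha' P
    rwa [this, Valuation.map_neg] at h'
  exact Module.Finite.of_surjective _ (Submodule.factor_surjective hle)

theorem residue_theorem (hK : IsFunctionField k K) {F : Place k K → Type w} [∀ P, Field (F P)]
    [∀ P, Algebra k (F P)] [∀ P, FiniteDimensional k (F P)] {φ : ∀ P, K →ₐ[k] LaurentSeries (F P)}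
    (hφ : ∀ P, LocRes.IsExpansionAt P.1 (φ P)) (u v : K) :
    ∑ᶠ P, LocRes.locRes (φ P) u v = 0 := by
  classical
  let S := ((finite_poles hK u).union (finite_poles hK v)).toFinset
  have hS : ∀ P ∉ S, P.1 u ≤ 1 ∧ P.1 v ≤ 1 := fun P hP => by
    simpa [S, not_or, not_not] using hP
  rw [finsum_eq_sum_of_support_subset (s := S) _ fun P hP => by
    by_contra h
    refine hP ?_
    show Algebra.trace k (F P) (LocRes.resExp (φ P) u v) = 0
    rw [resExp_eq_zero (hφ P) (hS P h).1 (hS P h).2, map_zero], ← Finset.sum_coe_sort]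
  let f : Module.End k (S → K) := mulLeft k fun _ => u
  let g : Module.End k (S → K) := mulLeft k fun _ => v
  have hc : f * g = g * f := LinearMap.ext fun z => funext fun P => mul_left_comm u v (z P)
  let A : Finset S → Submodule k (S → K) := fun s =>
    Submodule.pi Set.univ fun P => if P ∈ s then ball P.1 0 else ⊥
  have hA : ∀ s, Adapted (A s) f g ∧
      res (A s) f g = ∑ P ∈ s, LocRes.locRes (φ P.1) u v := by
    intro s
    induction s using Finset.induction_on with
    | empty =>
      have : A ∅ = ⊥ := by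
        refine eq_bot_iff.2 fun z hz => funext fun P => ?_
        simpa [A] using hz P (Set.mem_univ P)
      rw [this, Finset.sum_empty]
      exact ⟨⟨hc, almostInv_of_finite _ f, almostInv_of_finite _ g⟩, res_eq_zero_of_finite _ hc⟩
    | insert P s hPs ih =>
      let i : K →ₗ[k] (S → K) := single k (fun _ => K) P
      have hp : proj P ∘ₗ i = LinearMap.id := LinearMap.ext fun x => by simp [i]
      have hfi : ∀ w : K, mulLeft k (fun _ : S => w) ∘ₗ i = i ∘ₗ mulLeft k w := fun w => by
        refine LinearMap.ext fun x => funext fun Q => ?_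
        by_cases h : Q = P
        · subst h; simp [i]
        · simp [i, Pi.single_eq_of_ne h]
      have had := adapted_ball (hφ P.1) u v
      have hP' := had.map hc (hfi u) (hfi v)
      have hinf : (ball P.1 0).map i ⊓ A s = ⊥ := by
        refine eq_bot_iff.2 fun z ⟨hz, hz'⟩ => ?_
        obtain ⟨x, -, rfl⟩ := hz
        have : x = 0 := by simpa [A, i, hPs] using hz' P (Set.mem_univ P)
        simp [this]
      have hsup : (ball P.1 0).map i ⊔ A s = A (insert P s) := by
        apply le_antisymm
        · refine sup_le ?_ fun z hz Q _ => ?_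
          · rintro _ ⟨x, hx, rfl⟩ Q -
            by_cases h : Q = P
            · subst h; simpa [i] using hx
            · simp [i, Pi.single_eq_of_ne h]
          · have := hz Q (Set.mem_univ Q)
            simp only [A] at this
            by_cases h : Q ∈ s
            · simpa [h] using this
            · rw [if_neg h, SetLike.mem_coe, Submodule.mem_bot] at this
              rw [this]; exact Submodule.zero_mem _
        · intro z hz
          rw [← add_sub_cancel (i (z P)) z]
          refine Submodule.add_mem_sup ⟨z P, by simpa [A] using hz P (Set.mem_univ P), rfl⟩ ?_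
          intro Q _
          by_cases h : Q = P
          · subst h; simp [i, hPs]
          · have := hz Q (Set.mem_univ Q)
            simp only [A, Finset.mem_insert, h, false_or] at this
            simpa [i, A, Pi.single_eq_of_ne h] using this
      have h1 := res_inf_add_sup hP' ih.1
      rw [hinf, hsup, res_eq_zero_of_finite (⊥ : Submodule k (S → K)) hc, zero_add,
        res_map had hc hp (hfi u) (hfi v), res_ball (hφ P.1), ih.2] at h1
      exact ⟨hsup ▸ hP'.sup ih.1, by rw [h1, Finset.sum_insert hPs]⟩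
  obtain ⟨hAd, hres⟩ := hA Finset.univ
  rw [← hres]
  let δ : K →ₗ[k] (S → K) := LinearMap.pi fun _ => LinearMap.id
  let R : Submodule k K := ⨅ P ∈ {P : Place k K | P ∉ S}, ball P 0
  have hR : ∀ {w z : K}, (∀ P ∉ S, P.1 w ≤ 1) → z ∈ R → w * z ∈ R := fun hw hz => by
    simp only [R, Submodule.mem_iInf, mem_ball_zero, map_mul] at hz ⊢
    exact fun P hP => mul_le_one' (hw P hP) (hz P hP)
  have hB : ∀ w : K, (∀ P ∉ S, P.1 w ≤ 1) → ∀ z ∈ R.map δ, mulLeft k (fun _ : S => w) z ∈ R.map δ := by
    rintro w hw _ ⟨z, hz, rfl⟩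
    exact ⟨w * z, hR hw hz, rfl⟩
  have hBf := hB u fun P hP => (hS P hP).1
  have hBg := hB v fun P hP => (hS P hP).2
  have hBd : Adapted (R.map δ) f g := ⟨hc, almostInv_of_invariant hBf, almostInv_of_invariant hBg⟩
  have h := res_inf_add_sup hAd hBd
  rw [res_eq_zero_of_invariant hc hBf hBg, add_zero] at h
  rw [← h]
  have := (show FF30.FF k K from hK.1).finite_L (0 : Divisor k K)
  have h0 : A Finset.univ ⊓ R.map δ ≤ (L (0 : Divisor k K)).map δ := by
    rintro _ ⟨hz, x, hx, rfl⟩
    refine ⟨x, fun P => ?_, rfl⟩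
    simp only [Finsupp.coe_zero, Pi.zero_apply, exp_zero]
    by_cases hP : P ∈ S
    · simpa [A, δ, mem_ball_zero] using hz ⟨P, hP⟩ (Set.mem_univ _)
    · simp only [SetLike.mem_coe, R, Submodule.mem_iInf, mem_ball_zero] at hx
      exact hx P hP
  have : FiniteDimensional k ↥(A Finset.univ ⊓ R.map δ) := Submodule.finiteDimensional_of_le h0
  rw [res_eq_zero_of_finite _ hc, zero_add]
  have := finite_quot_sup hK S (A := A Finset.univ) (B := R.map δ)
    (fun z hz P _ => by simpa [A, mem_ball_zero] using hz P)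
    (fun x hx => ⟨x, by simpa [R, Submodule.mem_iInf, mem_ball_zero] using hx, rfl⟩)
  exact res_eq_zero_of_cofinite _ hc

theorem trace_formula {K' : Type v} [Field K'] [Algebra K K'] [Algebra k K'] [IsScalarTower k K K']
    [FiniteDimensional K K'] (hK : IsFunctionField k K) (P : Place k K)
    {F : Type w} [Field F] [Algebra k F] [FiniteDimensional k F] {φ : K →ₐ[k] LaurentSeries F}
    (hφ : LocRes.IsExpansionAt P.1 φ) (Qs : Finset (Place k K')) (hQs : ∀ Q, Q ∈ Qs ↔ IsOver Q P)
    {F' : Place k K' → Type w} [∀ Q, Field (F' Q)] [∀ Q, Algebra k (F' Q)]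
    [∀ Q, FiniteDimensional k (F' Q)] {ψ : ∀ Q, K' →ₐ[k] LaurentSeries (F' Q)}
    (hψ : ∀ Q ∈ Qs, LocRes.IsExpansionAt Q.1 (ψ Q)) (y : K') (x : K) :
    LocRes.locRes φ (Algebra.trace K K' y) x =
      ∑ Q ∈ Qs, LocRes.locRes (ψ Q) y (algebraMap K K' x) := by
  classical
  have hF : FF30.FF k K := hK.1
  set f := mulLeft k y with hf
  set g := mulLeft k (algebraMap K K' x) with hg
  have hc : f * g = g * f := mulLeft_comm _ _
  let A : Finset (Place k K') → Submodule k K' := fun s => s.inf fun Q => ball Q 0
  have hA : ∀ s, s ⊆ Qs → Adapted (A s) f g ∧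
      res (A s) f g = ∑ Q ∈ s, LocRes.locRes (ψ Q) y (algebraMap K K' x) := by
    intro s
    induction s using Finset.induction_on with
    | empty =>
      intro _
      rw [show A ∅ = ⊤ from Finset.inf_empty, Finset.sum_empty]
      exact ⟨⟨hc, almostInv_of_invariant fun _ _ => trivial, almostInv_of_invariant fun _ _ => trivial⟩,
        res_top hc⟩
    | insert Q s hQ ih =>
      intro hs
      rw [Finset.insert_subset_iff] at hs
      obtain ⟨ih1, ih2⟩ := ih hs.2
      have hq := adapted_ball (hψ Q hs.1) y (algebraMap K K' x)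
      have hsup : ball Q 0 ⊔ A s = ⊤ := by
        refine eq_top_iff.2 fun z _ => ?_
        obtain ⟨w, hw⟩ := FF30.exists_approx (insert Q s) (fun R => if R = Q then z else 0) fun _ => 0
        rw [← sub_add_cancel z w]
        refine Submodule.add_mem_sup ?_ ?_
        · have := hw Q (Finset.mem_insert_self Q s)
          rwa [if_pos rfl, Q.1.map_sub_swap] at this
        · refine (Submodule.mem_finsetInf (s := s)).2 fun R hR => ?_
          have := hw R (Finset.mem_insert_of_mem hR)
          rwa [if_neg (fun h : R = Q => hQ (h ▸ hR)), sub_zero] at this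
      have h1 := res_inf_add_sup hq ih1
      rw [hsup, res_top hc, add_zero, res_ball (hψ Q hs.1), ih2,
        ← show A (insert Q s) = ball Q 0 ⊓ A s from Finset.inf_insert] at h1
      exact ⟨(show A (insert Q s) = ball Q 0 ⊓ A s from Finset.inf_insert) ▸ hq.inf ih1,
        by rw [h1, Finset.sum_insert hQ]⟩
  obtain ⟨hAd, hres⟩ := hA Qs le_rfl
  rw [← hres]
  letI : Algebra P.O K' := ((algebraMap K K').comp P.O.subtype).toAlgebra
  haveI : IsScalarTower P.O K K' := IsScalarTower.of_algebraMap_eq fun _ => rfl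
  obtain ⟨s, hcard, hli, hspan⟩ := hF.exists_integral_basis P (K' := K')
  have : Nonempty s := Fintype.card_pos_iff.1 (by rw [Fintype.card_coe, hcard]; exact Module.finrank_pos)
  let b := basisOfLinearIndependentOfCardEqFinrank hli (by rw [Fintype.card_coe, hcard])
  have hb : ∀ i, b i = (i : K') := fun i => by simp [b]
  have hmem : ∀ z, z ∈ A Qs ↔ ∀ i, b.repr z i ∈ ball P 0 := by
    intro z
    have h1 : z ∈ A Qs ↔ z ∈ Submodule.span P.O (s : Set K') := by
      rw [← hspan, Subalgebra.mem_toSubmodule, mem_integralClosure_iff, hF.isIntegral_iff P z,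
        Submodule.mem_finsetInf]
      simp only [hQs, mem_ball_zero]
    rw [h1]
    clear h1
    constructor
    · intro hz
      induction hz using Submodule.span_induction with
      | mem x hx =>
        intro i
        rw [show x = b ⟨x, hx⟩ from (hb ⟨x, hx⟩).symm, b.repr_self, Finsupp.single_apply]
        split <;> simp [mem_ball_zero]
      | zero => simp
      | add x y _ _ hx hy => intro i; rw [map_add, Finsupp.add_apply]; exact add_mem (hx i) (hy i)
      | smul a x _ hx =>
        intro i
        rw [← algebraMap_smul K a x, map_smul, Finsupp.smul_apply, smul_eq_mul, mem_ball_zero, map_mul]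
        exact mul_le_one' a.2 (hx i)
    · intro hz
      rw [← b.sum_repr z]
      refine Submodule.sum_mem _ fun i _ => ?_
      rw [hb, Algebra.smul_def, FF30.span_O_eq P _ (hz i)]
      exact Submodule.smul_mem _ _ (Submodule.subset_span i.2)
  obtain ⟨q, hq⟩ := exists_proj (ball P 0)
  let p : s → (K' →ₗ[k] K) := fun i => (b.coord i).restrictScalars k
  let ι : s → (K →ₗ[k] K') := fun i => ((LinearMap.id : K →ₗ[K] K).smulRight (b i)).restrictScalars k
  have hι : ∀ i (c : K), ι i c = c • b i := fun i c => rfl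
  let π : Module.End k K' := ∑ i, ι i ∘ₗ q ∘ₗ p i
  have hπz : ∀ z, π z = ∑ i, q (b.repr z i) • b i := fun z => by
    simp only [π, LinearMap.sum_apply, LinearMap.comp_apply, hι]
    rfl
  have hpπ : ∀ i z, p i (π z) = q (p i z) := fun i z => by
    show b.repr (π z) i = q (b.repr z i)
    rw [hπz, b.repr_sum_self fun i => q (b.repr z i)]
  have hπι : ∀ i c, π (ι i c) = ι i (q c) := fun i c => by
    rw [hπz, hι, hι, map_smul, b.repr_self, Finset.sum_eq_single i (fun j _ hj => by
      simp [Finsupp.single_eq_of_ne hj]) (fun h => absurd (Finset.mem_univ i) h)]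
    simp
  have hπ : IsProj (A Qs) π := ⟨fun z => (hmem _).2 fun i => (hpπ i z).symm ▸ hq.map_mem _, fun z hz => by
    rw [hπz]
    simp_rw [hq.map_id _ ((hmem z).1 hz _), b.sum_repr]⟩
  have hgp : ∀ i z, p i (algebraMap K K' x * z) = x * p i z := fun i z => by
    show b.repr _ i = x * b.repr z i
    rw [← Algebra.smul_def, map_smul, Finsupp.smul_apply, smul_eq_mul]
  have hgι : ∀ i c, algebraMap K K' x * ι i c = ι i (x * c) := fun i c => by
    rw [hι, hι, ← Algebra.smul_def, smul_smul]
  have hfi : ∀ i c, p i (y * ι i c) = Algebra.leftMulMatrix b y i i * c := fun i c => by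
    show b.repr _ i = _
    rw [hι, mul_smul_comm, map_smul, Finsupp.smul_apply, smul_eq_mul,
      Algebra.leftMulMatrix_eq_repr_mul, mul_comm]
  have hT := hAd.finRank hπ
  have hid : ∑ i, ι i ∘ₗ p i = (1 : Module.End k K') := LinearMap.ext fun z => by
    simp only [LinearMap.sum_apply, LinearMap.comp_apply, hι]
    exact b.sum_repr z
  have hsum : tau π f g = ∑ i, ι i ∘ₗ (p i ∘ₗ tau π f g) := by
    conv_lhs => rw [← one_mul (tau π f g), ← hid, Finset.sum_mul]
    rfl
  rw [res_eq hAd hπ, hsum, tr_sum _ fun i _ => (hT.comp_left (p i)).comp_left (ι i),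
    Algebra.trace_eq_matrix_trace b, Matrix.trace]
  have hlin : ∀ (t : Finset s), LocRes.locRes φ (∑ i ∈ t, Algebra.leftMulMatrix b y i i) x =
      ∑ i ∈ t, LocRes.locRes φ (Algebra.leftMulMatrix b y i i) x := fun t => by
    simp only [LocRes.locRes, ← map_sum]
    congr 1
    show (φ _ * _).coeff (-1) = ∑ i ∈ t, (φ _ * _).coeff (-1)
    rw [map_sum, Finset.sum_mul, HahnSeries.coeff_sum]
  refine (hlin _).trans (Finset.sum_congr rfl fun i _ => ?_)
  rw [tr_comp_comm (ι i) _ (hT.comp_left (p i)), ← res_ball hφ, res_eq (adapted_ball hφ _ _) hq]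
  congr 1
  refine LinearMap.ext fun c => ?_
  show q (_ * q (q (x * q c))) - q (x * q (q (_ * q c))) = p i (tau π f g (ι i c))
  simp only [tau, hf, hg, LinearMap.sub_apply, Module.End.mul_apply, mulLeft_apply, map_sub, hπι, hgι,
    hpπ, hgp, hfi]

end Groth.Agent.Res31
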