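import Groth.Agent.Res31.Tate
import Groth.Agent.Exp31.Laurent
import Groth.Agent.FF30.Basic
import Groth.Prelude.Def_W4bk4goldsch23FF
import Mathlib.LinearAlgebra.Basis.Defs

/-! Tate's residue along a valuation ring is the residue read through an expansion. -/

namespace Groth.Agent.Res31

open FunFld WithZero Exp31
open scoped LaurentSeries

variable {k K F : Type*} [Field k] [Field K] [Algebra k K] [Field F] [Algebra k F]

/-- The elements with poles of order at most `n` at `P`. -/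
def ball (P : Place k K) (n : ℤ) : Submodule k K where
  carrier := {z | P.1 z ≤ exp n}
  add_mem' {x y} hx hy := (P.1.map_add x y).trans (max_le hx hy)
  zero_mem' := by simp
  smul_mem' c x hx := (FF30.val_smul_le P c x).trans hx

theorem mem_ball {P : Place k K} {n : ℤ} {z : K} : z ∈ ball P n ↔ P.1 z ≤ exp n := Iff.rfl

theorem mem_ball_zero {P : Place k K} {z : K} : z ∈ ball P 0 ↔ P.1 z ≤ 1 := Iff.rfl

theorem exists_bound (P : Place k K) (u v : K) :
    ∃ n : ℕ, P.1 u ≤ exp (n : ℤ) ∧ P.1 v ≤ exp (n : ℤ) := by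
  have key : ∀ (w : K) (n : ℕ), (log (P.1 w)).natAbs ≤ n → P.1 w ≤ exp (n : ℤ) := fun w n hn => by
    rcases eq_or_ne w 0 with rfl | h
    · simp
    · rw [← exp_log (FF30.val_ne_zero P h), exp_le_exp]
      omega
  exact ⟨(log (P.1 u)).natAbs + (log (P.1 v)).natAbs, key u _ (Nat.le_add_right _ _),
    key v _ (Nat.le_add_left _ _)⟩

/-- A coefficient of the expansion, as a linear map. -/
noncomputable def cf (φ : K →ₐ[k] F⸨X⸩) (i : ℤ) : K →ₗ[k] F where
  toFun z := (φ z).coeff i
  map_add' x y := by simp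
  map_smul' c x := by
    rw [Algebra.smul_def, map_mul, LocRes.map_algebraMap, HahnSeries.C_apply,
      HahnSeries.coeff_single_zero_mul, RingHom.id_apply, Algebra.smul_def]

variable {P : Place k K} {φ : K →ₐ[k] F⸨X⸩}

theorem mem_ball_iff (hφ : LocRes.IsExpansionAt P.1 φ) {z : K} {n : ℤ} :
    z ∈ ball P n ↔ ∀ i : ℤ, i < -n → (φ z).coeff i = 0 := by
  rw [← val_le_iff, hφ.1, neg_neg]; rfl

theorem coeff_mul_Icc {f g : F⸨X⸩} {a b : ℤ} (hf : ∀ i : ℤ, i < a → f.coeff i = 0)
    (hg : ∀ i : ℤ, i < b → g.coeff i = 0) (n : ℤ) :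
    (f * g).coeff n = ∑ i ∈ Finset.Icc a (n - b), f.coeff i * g.coeff (n - i) := by
  classical
  rw [HahnSeries.coeff_mul,
    ← Finset.sum_image (f := fun p : ℤ × ℤ => f.coeff p.1 * g.coeff p.2) (g := fun i => (i, n - i))
      fun x _ y _ h => (Prod.mk.inj h).1]
  refine Finset.sum_subset ?_ ?_
  · rintro ⟨i, j⟩ hij
    rw [Finset.mem_antidiagonal] at hij
    obtain ⟨hi, hj, hs⟩ := hij
    have h1 : a ≤ i := not_lt.1 fun h => hi (hf i h)
    have h2 : b ≤ j := not_lt.1 fun h => hj (hg j h)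
    simp only at hs
    exact Finset.mem_image.2 ⟨i, Finset.mem_Icc.2 ⟨h1, by omega⟩, Prod.ext rfl (by simp only; omega)⟩
  · rintro ⟨i, j⟩ hij hn
    obtain ⟨i', -, h⟩ := Finset.mem_image.1 hij
    obtain ⟨rfl, rfl⟩ := Prod.mk.inj h
    rw [Finset.mem_antidiagonal] at hn
    simp only [HahnSeries.mem_support, ne_eq, add_sub_cancel, and_true, not_and_or, not_not] at hn ⊢
    rcases hn with h | h <;> simp [h]

theorem exists_lead (hφ : LocRes.IsExpansionAt P.1 φ) (s : ℤ) (a : F) :
    ∃ z : K, (∀ i : ℤ, i < s → (φ z).coeff i = 0) ∧ (φ z).coeff s = a := by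
  obtain ⟨τ, hτ⟩ := hφ.2.2
  have hs : Valued.v (φ (τ ^ s)) = exp (-s) := by
    rw [hφ.1, map_zpow₀, hτ, ← exp_zsmul, smul_eq_mul, mul_neg, mul_one]
  have hs' := val_le_iff.1 hs.le
  obtain ⟨f, hf, hfa⟩ := hφ.2.1 (a / (φ (τ ^ s)).coeff s)
  have hf' : ∀ i : ℤ, i < 0 → (φ f).coeff i = 0 :=
    val_le_iff.1 (by rwa [hφ.1, neg_zero, exp_zero])
  refine ⟨f * τ ^ s, fun i hi => ?_, ?_⟩
  · rw [map_mul, coeff_mul_Icc hf' hs', Finset.Icc_eq_empty (by omega), Finset.sum_empty]
  · rw [map_mul, coeff_mul_Icc hf' hs', sub_self, Finset.Icc_self, Finset.sum_singleton, sub_zero, hfa,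
      div_mul_cancel₀ _ (coeff_ne_zero_of_val_eq hs)]

theorem exists_agree (hφ : LocRes.IsExpansionAt P.1 φ) {s : ℤ} (h : F⸨X⸩)
    (hh : ∀ i : ℤ, i < s → h.coeff i = 0) (n : ℕ) :
    ∃ z : K, ∀ i : ℤ, i < s + n → (φ z).coeff i = h.coeff i := by
  induction n with
  | zero => exact ⟨0, fun i hi => by rw [map_zero, hh i (by omega), HahnSeries.coeff_zero]⟩
  | succ n ih =>
    obtain ⟨z, hz⟩ := ih
    obtain ⟨w, hw, hw'⟩ := exists_lead hφ (s + n) (h.coeff (s + n) - (φ z).coeff (s + n))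
    refine ⟨z + w, fun i hi => ?_⟩
    rw [map_add, HahnSeries.coeff_add]
    rcases eq_or_lt_of_le (show i ≤ s + n by omega) with rfl | hlt
    · rw [hw', add_sub_cancel]
    · rw [hz i hlt, hw i hlt, add_zero]

theorem exists_lift [FiniteDimensional k F] (hφ : LocRes.IsExpansionAt P.1 φ) (N s : ℤ) :
    ∃ L : F →ₗ[k] K, ∀ (a : F) (i : ℤ), i < N → (φ (L a)).coeff i = if i = s then a else 0 := by
  have h1 : ∀ a : F, ∃ z : K, ∀ i : ℤ, i < N → (φ z).coeff i = if i = s then a else 0 := fun a => by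
    obtain ⟨z, hz⟩ := exists_agree hφ (HahnSeries.single s a)
      (s := s) (fun i hi => HahnSeries.coeff_single_of_ne hi.ne) (N - s).toNat
    exact ⟨z, fun i hi => by rw [hz i (by omega), HahnSeries.coeff_single]; split_ifs <;> rfl⟩
  choose z hz using h1
  let b := Module.finBasis k F
  refine ⟨b.constr k fun j => z (b j), fun a i hi => ?_⟩
  have : cf φ i ∘ₗ b.constr k (fun j => z (b j)) = if i = s then LinearMap.id else 0 := by
    refine b.ext fun j => ?_
    show (φ (b.constr k (fun j => z (b j)) (b j))).coeff i = _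
    rw [Module.Basis.constr_basis, hz _ i hi]
    split <;> rfl
  have := LinearMap.congr_fun this a
  refine this.trans ?_
  split <;> rfl

theorem mul_mem_ball {u z : K} {n m : ℤ} (hu : u ∈ ball P n) (hz : z ∈ ball P m) :
    u * z ∈ ball P (n + m) := by
  rw [mem_ball, map_mul, exp_add]
  exact mul_le_mul' hu hz

theorem mulLeft_comm (u v : K) :
    LinearMap.mulLeft k u * LinearMap.mulLeft k v = LinearMap.mulLeft k v * LinearMap.mulLeft k u :=
  LinearMap.ext fun x => by simp [mul_left_comm]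

theorem smul_sum_Icc {M : Type*} [AddCommGroup M] (n : ℤ) (h : ℤ → M) :
    ∑ s ∈ Finset.Icc 1 n, ∑ j ∈ Finset.Icc (-n) (-s), h j = ∑ j ∈ Finset.Icc (-n) (-1), (-j) • h j := by
  rw [Finset.sum_comm' (t' := Finset.Icc (-n) (-1)) (s' := fun j => Finset.Icc 1 (-j))]
  · refine Finset.sum_congr rfl fun j hj => ?_
    rw [Finset.mem_Icc] at hj
    rw [Finset.sum_const, Int.card_Icc, ← natCast_zsmul]
    congr 1
    omega
  · intro s j
    simp only [Finset.mem_Icc]
    omega

/-- The half of the residue computed by one of the two traces. -/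
noncomputable def half (φ : K →ₐ[k] F⸨X⸩) (n : ℤ) (u v : K) : F :=
  ∑ j ∈ Finset.Icc (-n) (-1), (-j) • ((φ u).coeff j * (φ v).coeff (-j))

theorem half_sub_half (hφ : LocRes.IsExpansionAt P.1 φ) {n : ℕ} {u v : K} (hu : u ∈ ball P n)
    (hv : v ∈ ball P n) : half φ n u v - half φ n v u = LocRes.resExp φ u v := by
  have h1 : LocRes.resExp φ u v = (φ u * LocRes.D F (φ v)).coeff (-1) := rfl
  rw [h1, coeff_mul_Icc (a := -(n : ℤ)) (b := -(n : ℤ) - 1) ((mem_ball_iff hφ).1 hu) fun i hi => by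
    rw [LocRes.D_coeff, (mem_ball_iff hφ).1 hv _ (by omega), smul_zero]]
  simp only [LocRes.D_coeff, show (-1 : ℤ) - (-(n : ℤ) - 1) = n by ring]
  set h : ℤ → F := fun j => (-j) • ((φ u).coeff j * (φ v).coeff (-j)) with hh
  have e1 : half φ n u v = ∑ j ∈ (Finset.Icc (-(n : ℤ)) n).filter (· < 0), h j :=
    Finset.sum_congr (by ext j; simp only [Finset.mem_Icc, Finset.mem_filter]; omega) fun _ _ => rfl
  have e2 : -half φ n v u = ∑ j ∈ (Finset.Icc (-(n : ℤ)) n).filter (¬ · < 0), h j := by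
    rw [← Finset.sum_subset (s₁ := Finset.Icc 1 (n : ℤ))
      (fun j => by simp only [Finset.mem_Icc, Finset.mem_filter]; omega) fun j hj hj' => by
        simp only [Finset.mem_Icc, Finset.mem_filter] at hj hj'
        obtain rfl : j = 0 := by omega
        simp [hh], half, ← Finset.sum_neg_distrib]
    refine Finset.sum_nbij' (fun j => -j) (fun j => -j) ?_ ?_ (fun j _ => neg_neg j) (fun j _ => neg_neg j)
      fun j _ => ?_
    · intro j hj; simp at hj ⊢; omega
    · intro j hj; simp at hj ⊢; omega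
    · simp [hh, mul_comm]
  rw [sub_eq_add_neg, e1, e2, Finset.sum_filter_add_sum_filter_not]
  refine Finset.sum_congr rfl fun j _ => ?_
  rw [hh, show -1 - j + 1 = -j by ring, mul_smul_comm]

variable [FiniteDimensional k F]

/-- Residue formula together with almost invariance. -/
theorem local_residue (hφ : LocRes.IsExpansionAt P.1 φ) (u v : K) :
    Adapted (ball P 0) (LinearMap.mulLeft k u) (LinearMap.mulLeft k v) ∧
      res (ball P 0) (LinearMap.mulLeft k u) (LinearMap.mulLeft k v) = LocRes.locRes φ u v := by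
  obtain ⟨n, hu, hv⟩ := exists_bound P u v
  rw [← mem_ball] at hu hv
  choose L hL using exists_lift hφ (2 * (n : ℤ) + 1)
  obtain ⟨p, hp⟩ := exists_proj (ball P (2 * (n : ℤ)))
  let c : Module.End k K := ∑ s ∈ Finset.Icc (1 : ℤ) (2 * n), L (-s) ∘ₗ cf φ (-s)
  have hc : ∀ z, ∀ i : ℤ, i < 2 * (n : ℤ) + 1 →
      (φ (c z)).coeff i = if i < 0 ∧ -(2 * (n : ℤ)) ≤ i then (φ z).coeff i else 0 := by
    intro z i hi
    show cf φ i (c z) = _
    simp only [c, LinearMap.sum_apply, map_sum, LinearMap.comp_apply]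
    simp only [cf, LinearMap.coe_mk, AddHom.coe_mk, hL _ _ i hi]
    split_ifs with h
    · rw [Finset.sum_eq_single (-i), if_pos (neg_neg i).symm, neg_neg]
      · intro s _ hs; rw [if_neg (by omega)]
      · intro hs; exact absurd (Finset.mem_Icc.2 ⟨by omega, by omega⟩) hs
    · refine Finset.sum_eq_zero fun s hs => if_neg ?_
      rw [Finset.mem_Icc] at hs
      omega
  have hc0 : ∀ z ∈ ball P 0, c z = 0 := fun z hz => by
    simp only [c, LinearMap.sum_apply, LinearMap.comp_apply]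
    refine Finset.sum_eq_zero fun s hs => ?_
    rw [show cf φ (-s) z = 0 from (mem_ball_iff hφ).1 hz _ (by rw [Finset.mem_Icc] at hs; omega), map_zero]
  have hcm : ∀ z ∈ ball P (2 * (n : ℤ)), z - c z ∈ ball P 0 := fun z hz =>
    (mem_ball_iff hφ).2 fun i hi => by
      rw [map_sub, HahnSeries.coeff_sub, hc z i (by omega)]
      split_ifs with h
      · rw [sub_self]
      · rw [(mem_ball_iff hφ).1 hz i (by omega), sub_zero]
  have hle : ∀ {a b : ℤ} {z : K}, a ≤ b → z ∈ ball P a → z ∈ ball P b :=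
    fun h hz => hz.trans (exp_le_exp.2 h)
  let π : Module.End k K := p - c * p
  have hπ : LinearMap.IsProj (ball P 0) π :=
    ⟨fun z => hcm _ (hp.map_mem z), fun z hz => by
      simp [π, hp.map_id z (hle (by omega) hz), hc0 z hz]⟩
  have hcomp : ∀ w ∈ ball P (n : ℤ), (1 - π) * LinearMap.mulLeft k w * π =
      ∑ s ∈ Finset.Icc (1 : ℤ) n, L (-s) ∘ₗ (cf φ (-s) ∘ₗ (LinearMap.mulLeft k w * π)) := by
    intro w hw
    refine LinearMap.ext fun x => ?_
    set z := w * π x
    have hzn : z ∈ ball P (n : ℤ) := by simpa using mul_mem_ball hw (hπ.map_mem x)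
    have h1 : (1 - π) z = c z := by simp [π, hp.map_id z (hle (by omega) hzn)]
    show (1 - π) z = _
    rw [h1]
    simp only [c, LinearMap.sum_apply, LinearMap.comp_apply]
    refine (Finset.sum_subset (Finset.Icc_subset_Icc le_rfl (by omega)) fun s hs hs' => ?_).symm
    rw [Finset.mem_Icc] at hs hs'
    show L (-s) ((φ z).coeff (-s)) = 0
    rw [(mem_ball_iff hφ).1 hzn _ (by omega), map_zero]
  have hfin : ∀ (s : ℤ) (w : K),
      FinRank (L (-s) ∘ₗ (cf φ (-s) ∘ₗ (LinearMap.mulLeft k w * π))) := fun s w =>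
    FinRank.comp_left (.of_forall_mem (p := ⊤) fun _ => trivial) _
  have hAI : ∀ w ∈ ball P (n : ℤ), AlmostInv (ball P 0) (LinearMap.mulLeft k w) := fun w hw =>
    almostInv_of_finRank hπ (hcomp w hw ▸ FinRank.sum _ fun s _ => hfin s w)
  have had : Adapted (ball P 0) (LinearMap.mulLeft k u) (LinearMap.mulLeft k v) :=
    ⟨mulLeft_comm u v, hAI u hu, hAI v hv⟩
  refine ⟨had, ?_⟩
  have key : ∀ a ∈ ball P (n : ℤ), ∀ b ∈ ball P (n : ℤ),
      tr (π * LinearMap.mulLeft k b * ((1 - π) * LinearMap.mulLeft k a * π)) =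
        Algebra.trace k F (half φ n a b) := by
    intro a ha b hb
    rw [hcomp a ha, Finset.mul_sum, tr_sum _ fun s _ => (hfin s a).mul_left _, half,
      ← smul_sum_Icc, map_sum]
    refine Finset.sum_congr rfl fun s hs => ?_
    rw [Finset.mem_Icc] at hs
    rw [Module.End.mul_eq_comp, ← LinearMap.comp_assoc,
      tr_comp_comm _ _ (.of_forall_mem (p := ⊤) fun _ => trivial), tr_eq_trace, Algebra.trace_apply]
    congr 1
    refine LinearMap.ext fun e => ?_
    show (φ (a * π (π (b * L (-s) e)))).coeff (-s) = _ * e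
    have hLe : L (-s) e ∈ ball P s := (mem_ball_iff hφ).2 fun i hi => by
      rw [hL _ _ _ (by omega), if_neg (by omega)]
    have hz : b * L (-s) e ∈ ball P (2 * (n : ℤ)) := hle (by omega) (mul_mem_ball hb hLe)
    have hw := hπ.map_mem (b * L (-s) e)
    rw [hπ.map_id _ hw, map_mul,
      coeff_mul_Icc ((mem_ball_iff hφ).1 ha) ((mem_ball_iff hφ).1 hw), Finset.sum_mul, neg_zero, sub_zero]
    refine Finset.sum_congr rfl fun j hj => ?_
    rw [Finset.mem_Icc] at hj
    rw [mul_assoc]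
    congr 1
    show (φ ((p - c * p) (b * L (-s) e))).coeff (-s - j) = _
    rw [LinearMap.sub_apply, Module.End.mul_apply, hp.map_id _ hz, map_sub, HahnSeries.coeff_sub,
      hc _ _ (by omega), if_neg (by omega), sub_zero, map_mul,
      coeff_mul_Icc ((mem_ball_iff hφ).1 hb) ((mem_ball_iff hφ).1 hLe), Finset.sum_eq_single (-j)]
    · rw [hL _ _ _ (by omega), if_pos (by omega)]
    · intro i hi hne
      rw [Finset.mem_Icc] at hi
      rw [hL _ _ _ (by omega), if_neg (by omega), mul_zero]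
    · intro hn; exact absurd (Finset.mem_Icc.2 ⟨by omega, by omega⟩) hn
  rw [res_eq_sub had hπ, key u hu v hv, key v hv u hu, ← map_sub, half_sub_half hφ hu hv]
  rfl

theorem adapted_ball (hφ : LocRes.IsExpansionAt P.1 φ) (u v : K) :
    Adapted (ball P 0) (LinearMap.mulLeft k u) (LinearMap.mulLeft k v) := (local_residue hφ u v).1

theorem res_ball (hφ : LocRes.IsExpansionAt P.1 φ) (u v : K) :
    res (ball P 0) (LinearMap.mulLeft k u) (LinearMap.mulLeft k v) = LocRes.locRes φ u v :=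
  (local_residue hφ u v).2

end Groth.Agent.Res31
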