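import Groth.Agent.Res31.FinTrace
import Mathlib.Tactic.NoncommRing

/-! Tate's residue of a pair of commuting endomorphisms along an almost invariant subspace. -/

namespace Groth.Agent.Res31

open LinearMap Submodule

variable {k U V : Type*} [Field k] [AddCommGroup U] [Module k U] [AddCommGroup V] [Module k V]
  {A B : Submodule k V} {π f g : Module.End k V}

theorem exists_proj (A : Submodule k V) : ∃ π : Module.End k V, IsProj A π := by
  obtain ⟨p, hp⟩ := A.subtype.exists_leftInverse_of_injective A.ker_subtype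
  refine ⟨A.subtype ∘ₗ p, fun x => (p x).2, fun x hx => ?_⟩
  have := LinearMap.congr_fun hp ⟨x, hx⟩
  exact congrArg Subtype.val this

theorem proj_mul_self (h : IsProj A π) : π * π = π :=
  LinearMap.ext fun x => h.map_id _ (h.map_mem x)

/-- `f` maps `A` into `A` up to finite dimension. -/
def AlmostInv (A : Submodule k V) (f : Module.End k V) : Prop := FinRank (A.mkQ ∘ₗ f ∘ₗ A.subtype)

theorem almostInv_of_le (W : Submodule k V) [FiniteDimensional k W]
    (h : ∀ x ∈ A, f x ∈ A ⊔ W) : AlmostInv A f := by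
  refine .of_forall_mem (p := W.map A.mkQ) fun x => ?_
  have := Submodule.mem_map_of_mem (f := A.mkQ) (h x.1 x.2)
  rwa [Submodule.map_sup, Submodule.mkQ_map_self, bot_sup_eq] at this

theorem almostInv_of_finite (A : Submodule k V) [FiniteDimensional k A] (f : Module.End k V) :
    AlmostInv A f := by
  refine almostInv_of_le (A.map f) fun x hx => ?_
  exact Submodule.mem_sup_right (Submodule.mem_map_of_mem hx)

theorem almostInv_of_cofinite (A : Submodule k V) [FiniteDimensional k (V ⧸ A)] (f : Module.End k V) :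
    AlmostInv A f :=
  .of_forall_mem (p := ⊤) fun _ => trivial

theorem almostInv_of_invariant (h : ∀ x ∈ A, f x ∈ A) : AlmostInv A f :=
  almostInv_of_le ⊥ fun x hx => Submodule.mem_sup_left (h x hx)

theorem AlmostInv.finRank (hA : AlmostInv A f) (hπ : IsProj A π) : FinRank ((1 - π) * f * π) := by
  let h : V ⧸ A →ₗ[k] V := A.liftQ (1 - π) fun x hx => by simp [hπ.map_id x hx]
  have : (1 - π) * f * π = h ∘ₗ (A.mkQ ∘ₗ f ∘ₗ A.subtype) ∘ₗ π.codRestrict A hπ.map_mem := rfl
  rw [this]
  exact (hA.comp_right _).comp_left _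

theorem almostInv_of_finRank (hπ : IsProj A π) (h : FinRank ((1 - π) * f * π)) : AlmostInv A f := by
  have : A.mkQ ∘ₗ f ∘ₗ A.subtype = A.mkQ ∘ₗ ((1 - π) * f * π) ∘ₗ A.subtype := by
    refine LinearMap.ext fun x => ?_
    simp [hπ.map_id x.1 x.2, (Submodule.Quotient.mk_eq_zero A).2 (hπ.map_mem (f x))]
  rw [AlmostInv, this]
  exact (h.comp_right _).comp_left _

/-- The commutator of the compressions. -/
def tau (π f g : Module.End k V) : Module.End k V :=
  π * f * π * (π * g * π) - π * g * π * (π * f * π)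

theorem tau_eq (hπ : π * π = π) (hc : f * g = g * f) :
    tau π f g = π * g * ((1 - π) * f * π) - π * f * ((1 - π) * g * π) := by
  have h : ∀ x : Module.End k V, π * (π * x) = π * x := fun x => by rw [← mul_assoc, hπ]
  have hc' : π * (f * (g * π)) = π * (g * (f * π)) := by rw [← mul_assoc f, ← mul_assoc g, hc]
  simp only [tau, mul_assoc, sub_mul, mul_sub, one_mul, h, hc']
  abel

theorem finRank_tau (hπ : π * π = π) (hc : f * g = g * f) (hf : FinRank ((1 - π) * f * π))
    (hg : FinRank ((1 - π) * g * π)) : FinRank (tau π f g) := by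
  rw [tau_eq hπ hc]
  exact (hf.mul_left _).sub (hg.mul_left _)

/-- The residue of the pair `f, g` along `A`. -/
noncomputable def res (A : Submodule k V) (f g : Module.End k V) : k :=
  tr (tau (exists_proj A).choose f g)

/-- A commuting pair for which the subspace is almost invariant. -/
structure Adapted (A : Submodule k V) (f g : Module.End k V) : Prop where
  comm : f * g = g * f
  left : AlmostInv A f
  right : AlmostInv A g

theorem Adapted.finRank (h : Adapted A f g) (hπ : IsProj A π) : FinRank (tau π f g) :=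
  finRank_tau (proj_mul_self hπ) h.comm (h.left.finRank hπ) (h.right.finRank hπ)

/-- Any projection onto `A` computes the residue. -/
theorem res_eq (h : Adapted A f g) (hπ : IsProj A π) : res A f g = tr (tau π f g) := by
  unfold res
  generalize hq : (exists_proj A).choose = q
  have hq' : IsProj A q := hq ▸ (exists_proj A).choose_spec
  have hpq : π * q = q := LinearMap.ext fun x => hπ.map_id _ (hq'.map_mem x)
  have hqp : q * π = π := LinearMap.ext fun x => hq'.map_id _ (hπ.map_mem x)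
  have hpp := proj_mul_self hπ
  have hqq := proj_mul_self hq'
  set a := (q - π) * ((1 - π) * f * π) with ha
  set b := (q - π) * ((1 - π) * g * π) with hb
  have haf : FinRank a := (h.left.finRank hπ).mul_left _
  have hbf : FinRank b := (h.right.finRank hπ).mul_left _
  set F := π * f * π with hF
  set G := π * g * π with hG
  have hfa : q * f * π = F + a := by
    have h1 : (q - π) * (1 - π) = q - π := by rw [mul_sub, mul_one, sub_mul, hqp, hpp, sub_self, sub_zero]
    rw [ha, hF, mul_assoc (1 - π), ← mul_assoc (q - π), h1]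
    noncomm_ring
  have hgb : q * g * π = G + b := by
    have h1 : (q - π) * (1 - π) = q - π := by rw [mul_sub, mul_one, sub_mul, hqp, hpp, sub_self, sub_zero]
    rw [hb, hG, mul_assoc (1 - π), ← mul_assoc (q - π), h1]
    noncomm_ring
  set X := q * f * π * (q * g * π) - q * g * π * (q * f * π) with hX
  have hpq' : ∀ x : Module.End k V, π * (q * x) = q * x := fun x => by rw [← mul_assoc, hpq]
  have hqq' : ∀ x : Module.End k V, q * (q * x) = q * x := fun x => by rw [← mul_assoc, hqq]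
  have h1 : tau q f g = X * q := by
    simp only [hX, tau, mul_assoc, sub_mul, hpq', hpq, hqq, hqq']
  have h2 : q * X = X := by
    simp only [hX, mul_assoc, mul_sub, hqq']
  have hT : FinRank (F * G - G * F) := h.finRank hπ
  have e1 : FinRank (F * b - b * F) := (hbf.mul_left F).sub (hbf.mul_right F)
  have e2 : FinRank (a * G - G * a) := (haf.mul_right G).sub (haf.mul_left G)
  have e3 : FinRank (a * b - b * a) := (haf.mul_right b).sub (haf.mul_left b)
  have h3 : X = (F * G - G * F) + (F * b - b * F) + (a * G - G * a) + (a * b - b * a) := by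
    rw [hX, hfa, hgb]; noncomm_ring
  have hXf : FinRank X := h3 ▸ ((hT.add e1).add e2).add e3
  rw [h1, tr_mul_comm X q (.inl hXf), h2, h3, tr_add ((hT.add e1).add e2) e3, tr_add (hT.add e1) e2,
    tr_add hT e1, tr_sub (hbf.mul_left F) (hbf.mul_right F), tr_sub (haf.mul_right G) (haf.mul_left G),
    tr_sub (haf.mul_right b) (haf.mul_left b), tr_mul_comm F b (.inr hbf), tr_mul_comm a G (.inl haf),
    tr_mul_comm a b (.inl haf)]
  simp only [sub_self, add_zero]
  rfl

/-- The residue as a difference of two traces. -/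
theorem res_eq_sub (h : Adapted A f g) (hπ : IsProj A π) :
    res A f g = tr (π * g * ((1 - π) * f * π)) - tr (π * f * ((1 - π) * g * π)) := by
  rw [res_eq h hπ, tau_eq (proj_mul_self hπ) h.comm,
    tr_sub ((h.left.finRank hπ).mul_left _) ((h.right.finRank hπ).mul_left _)]

theorem res_eq_zero_of_invariant (hc : f * g = g * f) (hf : ∀ x ∈ A, f x ∈ A) (hg : ∀ x ∈ A, g x ∈ A) :
    res A f g = 0 := by
  obtain ⟨π, hπ⟩ := exists_proj A
  have key : ∀ {u : Module.End k V}, (∀ x ∈ A, u x ∈ A) → (1 - π) * u * π = 0 := fun {u} hu =>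
    LinearMap.ext fun x => by simp [hπ.map_id _ (hu _ (hπ.map_mem x))]
  rw [res_eq_sub ⟨hc, almostInv_of_invariant hf, almostInv_of_invariant hg⟩ hπ, key hf, key hg]
  simp [tr_zero]

theorem res_top (hc : f * g = g * f) : res (⊤ : Submodule k V) f g = 0 :=
  res_eq_zero_of_invariant hc (fun _ _ => trivial) fun _ _ => trivial

theorem res_eq_zero_of_finite (A : Submodule k V) [FiniteDimensional k A] (hc : f * g = g * f) :
    res A f g = 0 := by
  obtain ⟨π, hπ⟩ := exists_proj A
  have hp : FinRank π := .of_forall_mem hπ.map_mem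
  rw [res_eq ⟨hc, almostInv_of_finite A f, almostInv_of_finite A g⟩ hπ, tau,
    tr_sub ((hp.mul_left (π * f)).mul_right _) ((hp.mul_left (π * g)).mul_right _),
    tr_mul_comm _ _ (.inl (hp.mul_left (π * f))), sub_self]

/-- Splitting along two orthogonal idempotents with one finite-rank corner. -/
theorem tr_tau_add {e₁ e₂ : Module.End k V} (h₁ : e₁ * e₁ = e₁) (h₂ : e₂ * e₂ = e₂) (h₁₂ : e₁ * e₂ = 0)
    (h₂₁ : e₂ * e₁ = 0) (hf : FinRank (e₂ * f * e₁)) (hg : FinRank (e₂ * g * e₁))
    (hT : FinRank (tau (e₁ + e₂) f g)) :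
    FinRank (tau e₁ f g) ∧ FinRank (tau e₂ f g) ∧
      tr (tau (e₁ + e₂) f g) = tr (tau e₁ f g) + tr (tau e₂ f g) := by
  set T := tau (e₁ + e₂) f g with hTdef
  have a₁ : ∀ x : Module.End k V, e₁ * (e₁ * x) = e₁ * x := fun x => by rw [← mul_assoc, h₁]
  have a₂ : ∀ x : Module.End k V, e₂ * (e₂ * x) = e₂ * x := fun x => by rw [← mul_assoc, h₂]
  have a₁₂ : ∀ x : Module.End k V, e₁ * (e₂ * x) = 0 := fun x => by rw [← mul_assoc, h₁₂, zero_mul]
  have a₂₁ : ∀ x : Module.End k V, e₂ * (e₁ * x) = 0 := fun x => by rw [← mul_assoc, h₂₁, zero_mul]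
  have x₁ : e₁ * T * e₁ =
      tau e₁ f g + (e₁ * f * e₂ * (e₂ * g * e₁) - e₁ * g * e₂ * (e₂ * f * e₁)) := by
    simp only [hTdef, tau, add_mul, mul_add, sub_mul, mul_sub, mul_assoc, a₁, a₂, a₁₂, a₂₁, h₁, h₂,
      h₁₂, h₂₁, mul_zero, add_zero, zero_add]
    abel
  have x₂ : e₂ * T * e₂ =
      tau e₂ f g + (e₂ * f * e₁ * (e₁ * g * e₂) - e₂ * g * e₁ * (e₁ * f * e₂)) := by
    simp only [hTdef, tau, add_mul, mul_add, sub_mul, mul_sub, mul_assoc, a₁, a₂, a₁₂, a₂₁, h₁, h₂,
      h₁₂, h₂₁, mul_zero, add_zero, zero_add]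
    abel
  have f₁ : FinRank (e₁ * f * e₂ * (e₂ * g * e₁) - e₁ * g * e₂ * (e₂ * f * e₁)) :=
    (hg.mul_left _).sub (hf.mul_left _)
  have f₂ : FinRank (e₂ * f * e₁ * (e₁ * g * e₂) - e₂ * g * e₁ * (e₁ * f * e₂)) :=
    (hf.mul_right _).sub (hg.mul_right _)
  have hT₁ : FinRank (e₁ * T * e₁) := (hT.mul_left e₁).mul_right e₁
  have hT₂ : FinRank (e₂ * T * e₂) := (hT.mul_left e₂).mul_right e₂
  have t₁ : FinRank (tau e₁ f g) := by
    rw [show tau e₁ f g = e₁ * T * e₁ - _ from eq_sub_of_add_eq x₁.symm]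
    exact hT₁.sub f₁
  have t₂ : FinRank (tau e₂ f g) := by
    rw [show tau e₂ f g = e₂ * T * e₂ - _ from eq_sub_of_add_eq x₂.symm]
    exact hT₂.sub f₂
  refine ⟨t₁, t₂, ?_⟩
  have hTT : T = e₁ * T + e₂ * T := by
    simp only [hTdef, tau, add_mul, mul_add, sub_mul, mul_sub, mul_assoc, a₁, a₂, a₁₂, a₂₁,
      add_zero, zero_add]
    abel
  have c₁ : tr (e₁ * T) = tr (e₁ * T * e₁) := by
    rw [tr_mul_comm _ e₁ (.inl (hT.mul_left e₁)), ← mul_assoc, h₁]
  have c₂ : tr (e₂ * T) = tr (e₂ * T * e₂) := by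
    rw [tr_mul_comm _ e₂ (.inl (hT.mul_left e₂)), ← mul_assoc, h₂]
  conv_lhs => rw [hTT]
  rw [tr_add (hT.mul_left _) (hT.mul_left _), c₁, c₂, x₁, x₂, tr_add t₁ f₁, tr_add t₂ f₂,
    tr_sub (hg.mul_left _) (hf.mul_left _), tr_sub (hf.mul_right _) (hg.mul_right _),
    tr_mul_comm (e₁ * f * e₂) _ (.inr hg), tr_mul_comm (e₁ * g * e₂) _ (.inr hf)]
  ring

/-- Orthogonal idempotents adapted to a pair of subspaces. -/
theorem exists_blocks (A B : Submodule k V) : ∃ d a b : Module.End k V,
    IsProj (A ⊓ B) d ∧ IsProj A (d + a) ∧ IsProj B (d + b) ∧ IsProj (A ⊔ B) (d + a + b) ∧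
    a * a = a ∧ b * b = b ∧ d * a = 0 ∧ a * d = 0 ∧ d * b = 0 ∧ b * d = 0 ∧ a * b = 0 ∧ b * a = 0 := by
  obtain ⟨d, hd⟩ := exists_proj (A ⊓ B)
  have hmk : ∀ (A B : Submodule k V), IsProj (A ⊓ B) d →
      ∃ a : Module.End k V, (∀ x, a x ∈ A ⊓ ker d) ∧ (∀ x ∈ A ⊓ ker d, a x = x) ∧ ∀ x ∈ B, a x = 0 := by
    intro A B hd
    let j : ↥(A ⊓ ker d) →ₗ[k] V ⧸ B := B.mkQ ∘ₗ (A ⊓ ker d).subtype
    have hj : ker j = ⊥ := by
      refine ker_eq_bot'.2 fun x hx => ?_
      obtain ⟨x, hxA, hxd⟩ := x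
      have hxB : x ∈ B := (Submodule.Quotient.mk_eq_zero B).1 hx
      exact Subtype.ext ((hd.map_id x ⟨hxA, hxB⟩).symm.trans hxd)
    obtain ⟨r, hr⟩ := j.exists_leftInverse_of_injective hj
    refine ⟨(A ⊓ ker d).subtype ∘ₗ r ∘ₗ B.mkQ, fun x => (r _).2, fun x hx => ?_, fun x hx => ?_⟩
    · exact congrArg Subtype.val (LinearMap.congr_fun hr ⟨x, hx⟩)
    · simp [(Submodule.Quotient.mk_eq_zero B).2 hx]
  obtain ⟨a, ha, ha', haB⟩ := hmk A B hd
  obtain ⟨b, hb, hb', hbA⟩ := hmk B A (inf_comm A B ▸ hd)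
  have sA : ∀ x ∈ A, a x = x - d x := fun x hx => by
    have h1 := ha' (x - d x) ⟨sub_mem hx (hd.map_mem x).1, by simp [hd.map_id _ (hd.map_mem x)]⟩
    rwa [map_sub, haB _ (hd.map_mem x).2, sub_zero] at h1
  have sB : ∀ x ∈ B, b x = x - d x := fun x hx => by
    have h1 := hb' (x - d x) ⟨sub_mem hx (hd.map_mem x).2, by simp [hd.map_id _ (hd.map_mem x)]⟩
    rwa [map_sub, hbA _ (hd.map_mem x).1, sub_zero] at h1
  refine ⟨d, a, b, hd, ⟨fun x => add_mem (hd.map_mem x).1 (ha x).1, fun x hx => by simp [sA x hx]⟩,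
    ⟨fun x => add_mem (hd.map_mem x).2 (hb x).1, fun x hx => by simp [sB x hx]⟩,
    ⟨fun x => add_mem (Submodule.mem_sup_left (add_mem (hd.map_mem x).1 (ha x).1))
      (Submodule.mem_sup_right (hb x).1), fun x hx => ?_⟩,
    LinearMap.ext fun x => ha' _ (ha x), LinearMap.ext fun x => hb' _ (hb x),
    LinearMap.ext fun x => (ha x).2, LinearMap.ext fun x => haB _ (hd.map_mem x).2,
    LinearMap.ext fun x => (hb x).2, LinearMap.ext fun x => hbA _ (hd.map_mem x).1,
    LinearMap.ext fun x => haB _ (hb x).1, LinearMap.ext fun x => hbA _ (ha x).1⟩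
  obtain ⟨y, hy, z, hz, rfl⟩ := Submodule.mem_sup.1 hx
  simp only [LinearMap.add_apply, map_add, sA y hy, hbA y hy, sB z hz, haB z hz]
  abel

theorem finRank_corner {π c d : Module.End k V} (hπ : IsProj A π) (hf : AlmostInv A f)
    (hc : c * π = 0) (hd : π * d = d) : FinRank (c * f * d) := by
  have e : c * f * d = c * ((1 - π) * f * π) * d := by
    rw [← mul_assoc c, ← mul_assoc c, mul_sub c, mul_one, hc, sub_zero]
    simp only [mul_assoc, hd]
  rw [e]
  exact ((hf.finRank hπ).mul_left c).mul_right d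

theorem AlmostInv.inf (hA : AlmostInv A f) (hB : AlmostInv B f) : AlmostInv (A ⊓ B) f := by
  obtain ⟨d, a, b, hd, hA', hB', hS, aa, bb, da, ad, db, bd, ab, ba⟩ := exists_blocks A B
  refine almostInv_of_finRank hd ?_
  have dd := proj_mul_self hd
  have e : (1 - d) * f * d = (1 - (d + a)) * f * d + a * f * d := by noncomm_ring
  rw [e]
  refine (finRank_corner hA' hA ?_ ?_).add (finRank_corner hB' hB ?_ ?_)
  · rw [sub_mul, one_mul, proj_mul_self hA', sub_self]
  · rw [add_mul, dd, ad, add_zero]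
  · rw [mul_add, ad, ab, add_zero]
  · rw [add_mul, dd, bd, add_zero]

theorem AlmostInv.sup (hA : AlmostInv A f) (hB : AlmostInv B f) : AlmostInv (A ⊔ B) f := by
  obtain ⟨d, a, b, hd, hA', hB', hS, aa, bb, da, ad, db, bd, ab, ba⟩ := exists_blocks A B
  refine almostInv_of_finRank hS ?_
  have e : (1 - (d + a + b)) * f * (d + a + b) =
      (1 - (d + a + b)) * f * (d + a) + (1 - (d + a + b)) * f * b := by noncomm_ring
  rw [e]
  refine (finRank_corner hA' hA ?_ (proj_mul_self hA')).add (finRank_corner hB' hB ?_ ?_)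
  · rw [sub_mul, one_mul, add_mul (d + a), proj_mul_self hA', mul_add b, bd, ba]
    abel
  · rw [sub_mul, one_mul, add_right_comm, add_mul (d + b), proj_mul_self hB', mul_add a, ad, ab]
    abel
  · rw [add_mul, db, bb, zero_add]

theorem Adapted.inf (hA : Adapted A f g) (hB : Adapted B f g) : Adapted (A ⊓ B) f g :=
  ⟨hA.comm, hA.left.inf hB.left, hA.right.inf hB.right⟩

theorem Adapted.sup (hA : Adapted A f g) (hB : Adapted B f g) : Adapted (A ⊔ B) f g :=
  ⟨hA.comm, hA.left.sup hB.left, hA.right.sup hB.right⟩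

/-- Additivity. -/
theorem res_inf_add_sup (hA : Adapted A f g) (hB : Adapted B f g) :
    res (A ⊓ B) f g + res (A ⊔ B) f g = res A f g + res B f g := by
  obtain ⟨d, a, b, hd, hA', hB', hS, aa, bb, da, ad, db, bd, ab, ba⟩ := exists_blocks A B
  have dd := proj_mul_self hd
  have kA : (d + a) * d = d := by rw [add_mul, dd, ad, add_zero]
  have kB : (d + b) * d = d := by rw [add_mul, dd, bd, add_zero]
  have xB : a * (d + b) = 0 := by rw [mul_add, ad, ab, add_zero]
  have xA : b * (d + a) = 0 := by rw [mul_add, bd, ba, add_zero]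
  have ya : (d + a) * a = a := by rw [add_mul, da, aa, zero_add]
  have fa := finRank_corner hB' hB.left xB kB
  have ga := finRank_corner hB' hB.right xB kB
  have fb := finRank_corner hA' hA.left xA kA
  have gb := finRank_corner hA' hA.right xA kA
  obtain ⟨-, -, eA⟩ := tr_tau_add dd aa da ad fa ga (hA.finRank hA')
  obtain ⟨-, -, eB⟩ := tr_tau_add dd bb db bd fb gb (hB.finRank hB')
  have hs : d + a + b = d + (a + b) := add_assoc _ _ _
  have hS2 := (hA.sup hB).finRank hS
  rw [hs] at hS2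
  obtain ⟨-, fab, eS⟩ := tr_tau_add dd
    (show (a + b) * (a + b) = a + b by rw [add_mul, mul_add, mul_add, aa, bb, ab, ba]; abel)
    (show d * (a + b) = 0 by rw [mul_add, da, db, add_zero])
    (show (a + b) * d = 0 by rw [add_mul, ad, bd, add_zero])
    (f := f) (g := g) (by rw [add_mul, add_mul]; exact fa.add fb)
    (by rw [add_mul, add_mul]; exact ga.add gb) hS2
  obtain ⟨-, -, eab⟩ := tr_tau_add aa bb ab ba
    (finRank_corner hA' hA.left xA ya) (finRank_corner hA' hA.right xA ya) fab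
  rw [res_eq (hA.inf hB) hd, res_eq (hA.sup hB) hS, res_eq hA hA', res_eq hB hB', hs, eA, eB, eS, eab]
  ring

theorem res_eq_zero_of_cofinite (A : Submodule k V) [FiniteDimensional k (V ⧸ A)]
    (hc : f * g = g * f) : res A f g = 0 := by
  obtain ⟨C, hC⟩ := A.exists_isCompl
  have : FiniteDimensional k C := (Submodule.quotientEquivOfIsCompl A C hC).finiteDimensional
  have h := res_inf_add_sup (⟨hc, almostInv_of_cofinite A f, almostInv_of_cofinite A g⟩ : Adapted A f g)
    ⟨hc, almostInv_of_finite C f, almostInv_of_finite C g⟩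
  rw [hC.inf_eq_bot, hC.sup_eq_top, res_top hc, res_eq_zero_of_finite C hc,
    res_eq_zero_of_finite (⊥ : Submodule k V) hc] at h
  simpa using h.symm

section Transfer

variable {i : U →ₗ[k] V} {p : V →ₗ[k] U} {f' g' : Module.End k U} {C : Submodule k U}

theorem AlmostInv.map (h : AlmostInv C f') (hf : f ∘ₗ i = i ∘ₗ f') : AlmostInv (C.map i) f := by
  obtain ⟨q, hq⟩ := exists_proj C
  have := h.finRank hq
  have : FiniteDimensional k (range ((1 - q) * f' * q)) := this
  refine almostInv_of_le ((range ((1 - q) * f' * q)).map i) fun x hx => ?_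
  obtain ⟨y, hy, rfl⟩ := hx
  have e : f (i y) = i (q (f' y)) + i (((1 - q) * f' * q) y) := by
    rw [← map_add, show f (i y) = i (f' y) from LinearMap.congr_fun hf y]
    simp [hq.map_id y hy]
  rw [e]
  exact Submodule.add_mem_sup (Submodule.mem_map_of_mem (hq.map_mem _))
    (Submodule.mem_map_of_mem (mem_range_self _ _))

theorem Adapted.map (h : Adapted C f' g') (hc : f * g = g * f) (hf : f ∘ₗ i = i ∘ₗ f')
    (hg : g ∘ₗ i = i ∘ₗ g') : Adapted (C.map i) f g := ⟨hc, h.left.map hf, h.right.map hg⟩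

theorem res_map (h : Adapted C f' g') (hc : f * g = g * f) (hp : p ∘ₗ i = LinearMap.id)
    (hf : f ∘ₗ i = i ∘ₗ f') (hg : g ∘ₗ i = i ∘ₗ g') : res (C.map i) f g = res C f' g' := by
  obtain ⟨q, hq⟩ := exists_proj C
  have hp' : ∀ x, p (i x) = x := LinearMap.congr_fun hp
  have hπ : IsProj (C.map i) (i ∘ₗ q ∘ₗ p) :=
    ⟨fun x => Submodule.mem_map_of_mem (hq.map_mem _), fun x hx => by
      obtain ⟨y, hy, rfl⟩ := hx
      simp [hp', hq.map_id y hy]⟩
  have e : tau (i ∘ₗ q ∘ₗ p) f g = i ∘ₗ tau q f' g' ∘ₗ p := LinearMap.ext fun x => by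
    have hf' : ∀ x, f (i x) = i (f' x) := LinearMap.congr_fun hf
    have hg' : ∀ x, g (i x) = i (g' x) := LinearMap.congr_fun hg
    simp [tau, hp', hf', hg']
  rw [res_eq (h.map hc hf hg) hπ, e, res_eq h hq, tr_comp_comm i _ ((h.finRank hq).comp_right p),
    LinearMap.comp_assoc, hp, LinearMap.comp_id]

end Transfer

end Groth.Agent.Res31
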