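import Groth.Agent.Res31.Global
import Groth.Agent.Exp31.Local
import Groth.Agent.FF30.Ramif
import Groth.Agent.FF30.SubField
import Mathlib.RingTheory.Derivation.Basic
import Mathlib.RingTheory.Unramified.Field

/-! Differentials as Weil differentials. -/

namespace Groth.Agent.Res31

open FunFld WithZero Exp31 Polynomial
open scoped LaurentSeries

universe u v w

variable {k : Type u} {K : Type v} [Field k] [Field K] [Algebra k K]

theorem exists_poly_unif (P : Place k K) {t z : K} (hz : P.1 z = exp (-1)) (ht : P.1 t ≤ 1)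
    (hmem : z ∈ IntermediateField.adjoin k ({t} : Set K)) : ∃ a : k[X], P.1 (aeval t a) = exp (-1) := by
  classical
  obtain ⟨p, q, hpq⟩ := IntermediateField.mem_adjoin_simple_iff k z |>.1 hmem
  have hz0 : z ≠ 0 := by rintro rfl; exact exp_ne_zero ((map_zero P.1).symm.trans hz).symm
  have hq0 : aeval t q ≠ 0 := fun h => hz0 (by rw [hpq, h, div_zero])
  have hp0 : aeval t p ≠ 0 := fun h => hz0 (by rw [hpq, h, zero_div])
  have hone : P.ord (aeval t p) - P.ord (aeval t q) = 1 := by
    rw [← FF30.ord_div P hp0 hq0, ← hpq, FF30.ord_eq_of_val_eq P hz, neg_neg]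
  have hle : ∀ a : k[X], P.1 (aeval t a) ≤ 1 := fun a => by
    rw [aeval_eq_sum_range]
    refine P.1.map_sum_le fun i _ => ?_
    rw [Algebra.smul_def, map_mul, map_pow]
    exact mul_le_one' (P.2.1 _) (pow_le_one₀ zero_le ht)
  by_cases hex : ∃ n, ∃ a : k[X], a.natDegree = n ∧ aeval t a ≠ 0 ∧ 0 < P.ord (aeval t a)
  · obtain ⟨a₀, hd, ha0, hpos⟩ := Nat.find_spec hex
    have hmin : ∀ b : k[X], b.natDegree < a₀.natDegree → aeval t b ≠ 0 → P.ord (aeval t b) = 0 := by
      intro b hb hb0
      have h1 := (FF30.val_le_one_iff P).1 (hle b)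
      have h2 := Nat.find_min hex (hd ▸ hb)
      simp only [not_exists, not_and, not_lt] at h2
      have := h2 b rfl hb0
      omega
    have hdeg : 0 < a₀.natDegree := by
      by_contra h
      rw [eq_C_of_natDegree_eq_zero (Nat.eq_zero_of_not_pos h), aeval_C, FF30.ord_algebraMap] at hpos
      omega
    have ha0' : a₀ ≠ 0 := by rintro rfl; simp at ha0
    have hdvd : ∀ b : k[X], aeval t b ≠ 0 → P.ord (aeval t a₀) ∣ P.ord (aeval t b) := by
      intro b
      induction hn : b.natDegree using Nat.strong_induction_on generalizing b with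
      | _ n ih =>
        intro hb
        rcases eq_or_lt_of_le ((FF30.val_le_one_iff P).1 (hle b)) with h0 | h0
        · exact ⟨0, by omega⟩
        · have hsplit := EuclideanDomain.div_add_mod b a₀
          set qq := b / a₀
          set r := b % a₀
          have hr : aeval t r = 0 := by
            by_contra hr
            have hrdeg : r.natDegree < a₀.natDegree := by
              have h1 : r.degree < a₀.degree := EuclideanDomain.mod_lt b ha0'
              exact natDegree_lt_natDegree (by rintro h; simp [h] at hr) h1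
            have h1 : P.1 (aeval t r) < 1 := by
              rw [show aeval t r = aeval t b - aeval t a₀ * aeval t qq by
                rw [← map_mul, ← map_sub, ← hsplit]; ring_nf]
              refine (P.1.map_sub _ _).trans_lt (max_lt ((FF30.val_lt_one_iff P hb).2 h0) ?_)
              rw [map_mul]
              exact (mul_le_of_le_one_right' (hle qq)).trans_lt ((FF30.val_lt_one_iff P ha0).2 hpos)
            have := hmin r hrdeg hr
            rw [FF30.val_lt_one_iff P hr] at h1
            omega
          have hbq : aeval t b = aeval t a₀ * aeval t qq := by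
            rw [← hsplit, map_add, map_mul, hr, add_zero]
          have hq0' : aeval t qq ≠ 0 := right_ne_zero_of_mul (hbq ▸ hb)
          have hlt : qq.natDegree < n := by
            have hb0 : b ≠ 0 := by rintro rfl; simp at hb
            have h1 : a₀.natDegree + qq.natDegree ≤ b.natDegree := by
              have hqq : qq ≠ 0 := by rintro h; simp [h] at hq0'
              by_contra hlt
              rw [← natDegree_mul ha0' hqq, not_le] at hlt
              have h2 : r.natDegree = (a₀ * qq).natDegree := by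
                rw [show r = b - a₀ * qq by rw [← hsplit]; ring]
                exact natDegree_sub_eq_right_of_natDegree_lt hlt
              rw [natDegree_mul ha0' hqq] at h2
              have h3 : r ≠ 0 := fun h => by rw [h, natDegree_zero] at h2; omega
              have h4 := natDegree_lt_natDegree h3 (EuclideanDomain.mod_lt b ha0' : r.degree < a₀.degree)
              omega
            omega
          rw [hbq, FF30.ord_mul P ha0 hq0']
          exact dvd_add dvd_rfl (ih _ hlt qq rfl hq0')
    have h1 := Int.dvd_sub (hdvd p hp0) (hdvd q hq0)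
    rw [hone] at h1
    refine ⟨a₀, ?_⟩
    rw [FF30.val_eq P ha0, Int.eq_one_of_dvd_one hpos.le h1]
  · exfalso
    simp only [not_exists, not_and, not_lt] at hex
    have h1 := hex _ p rfl hp0
    have h2 := (FF30.val_le_one_iff P).1 (hle q)
    omega

variable {F : Place k K → Type w} [∀ P, Field (F P)] [∀ P, Algebra k (F P)]
  {φ : ∀ P, K →ₐ[k] LaurentSeries (F P)}

theorem D_aeval {F : Type*} [Field F] [Algebra k F] (φ : K →ₐ[k] F⸨X⸩) (t : K) (a : k[X]) :
    LocRes.D F (φ (aeval t a)) = φ (aeval t (derivative a)) * LocRes.D F (φ t) := by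
  let := φ.toRingHom.toAlgebra
  exact Derivation.map_aeval (LocRes.dExp φ) a t

theorem finite_val_D_ne_one (hK : IsFunctionField k K) (hφ : ∀ P, LocRes.IsExpansionAt P.1 (φ P))
    {t : K} [Algebra.IsSeparable (IntermediateField.adjoin k ({t} : Set K)) K] (ht : Transcendental k t) :
    {P : Place k K | Valued.v (LocRes.D (F P) (φ P t)) ≠ 1}.Finite := by
  have hF : FF30.FF k K := hK.1
  have : FiniteDimensional (IntermediateField.adjoin k ({t} : Set K)) K := hF.finiteDimensional_adjoin ht
  set E := IntermediateField.adjoin k ({t} : Set K) with hE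
  have hE' : FF30.FF k E := (hF.intermediateField E (IntermediateField.mem_adjoin_simple_self k t) ht).1
  refine ((hE'.finite_ramified (K' := K)).union (finite_poles hK t)).subset fun Q hQ => ?_
  by_contra hcon
  simp only [Set.mem_union, Set.mem_setOf_eq, not_or, not_not] at hcon
  obtain ⟨⟨P, hP⟩, htQ⟩ := hcon
  obtain ⟨z, -, hz⟩ := FF30.exists_uniformizer P
  have hz' : Q.1 (z : K) = exp (-1) := by
    rw [← hz, show Q.1 (z : K) = P.1 z ^ 1 from hP z, pow_one]
  obtain ⟨a, ha⟩ := exists_poly_unif Q hz' htQ z.2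
  have h1 := val_D_eq (e := 1) (((hφ Q).1 _).trans ha) (by simp)
  rw [D_aeval, map_mul, (hφ Q).1, sub_self, neg_zero, exp_zero] at h1
  refine hQ (le_antisymm ?_ ?_)
  · have h0 : Valued.v (φ Q t) ≤ exp (-(0 : ℤ)) := by rwa [(hφ Q).1, neg_zero, exp_zero]
    refine le_trans ?_ (exp_zero (M := ℤ)).le
    rw [← neg_zero, val_le_iff]
    intro i hi
    rw [LocRes.D_coeff]
    rcases eq_or_ne i (-1) with rfl | hne
    · simp
    · rw [val_le_iff.1 h0 _ (by omega), smul_zero]
  · calc (1 : WithZero (Multiplicative ℤ)) = _ := h1.symm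
      _ ≤ _ := mul_le_of_le_one_left' (by
          rw [aeval_eq_sum_range]
          refine Q.1.map_sum_le fun i _ => ?_
          rw [Algebra.smul_def, map_mul, map_pow]
          exact mul_le_one' (Q.2.1 _) (pow_le_one₀ zero_le htQ))

theorem vDiff_ne_zero' (hK : IsFunctionField k K) (hs : ∃ t : K, Transcendental k t ∧ FiniteDimensional (IntermediateField.adjoin k ({t} : Set K)) K ∧
      Algebra.IsSeparable (IntermediateField.adjoin k ({t} : Set K)) K)
    (hφ : ∀ P, LocRes.IsExpansionAt P.1 (φ P)) {u v : K} (hu : u ≠ 0)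
    (hv : KaehlerDifferential.D k K v ≠ 0) (P : Place k K) : LocRes.vDiff (φ P) u v ≠ 0 := by
  obtain ⟨t, ht, hfin, hsep⟩ := hs
  obtain ⟨H, hH⟩ := exists_isHasseFamily t ht
  refine (Valuation.ne_zero_iff _).2 (mul_ne_zero ?_ (D_ne_zero_of_kaehler (hφ P) hH hv))
  exact (map_ne_zero (φ P)).2 hu

theorem vDiff_ne_zero (hK : IsFunctionField k K) (hg : IsGeometric k K)
    (hφ : ∀ P, LocRes.IsExpansionAt P.1 (φ P)) {u v : K} (hu : u ≠ 0)
    (hv : KaehlerDifferential.D k K v ≠ 0) (P : Place k K) : LocRes.vDiff (φ P) u v ≠ 0 :=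
  vDiff_ne_zero' hK (exists_separating hK hg) hφ hu hv P

theorem finite_ordDiff' (hK : IsFunctionField k K) (hs : ∃ t : K, Transcendental k t ∧ FiniteDimensional (IntermediateField.adjoin k ({t} : Set K)) K ∧
      Algebra.IsSeparable (IntermediateField.adjoin k ({t} : Set K)) K)
    (hφ : ∀ P, LocRes.IsExpansionAt P.1 (φ P)) {u v : K} (hu : u ≠ 0)
    (hv : KaehlerDifferential.D k K v ≠ 0) :
    (Function.support fun P => LocRes.ordDiff (φ P) u v).Finite := by
  obtain ⟨t, ht, hfin, hsep⟩ := hs
  obtain ⟨H, hH⟩ := exists_isHasseFamily t ht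
  have hF : FF30.FF k K := hK.1
  refine (((finite_val_D_ne_one hK hφ ht).union (hF.finite_support_ord u)).union
    (hF.finite_support_ord (LocRes.hasseD H 1 v))).subset fun P hP => ?_
  by_contra h
  simp only [Set.mem_union, Set.mem_setOf_eq, Function.mem_support, not_or, not_not] at h
  refine hP ?_
  have hv1 : LocRes.hasseD H 1 v ≠ 0 := fun h0 => hv (by rw [kaehlerD_eq hH v, h0, zero_smul])
  simp only [LocRes.ordDiff, LocRes.vDiff]
  rw [D_expansion (φ P) hH v, map_mul, map_mul, (hφ P).1, (hφ P).1,
    (FF30.val_eq_one_iff P hu).2 h.1.2, (FF30.val_eq_one_iff P hv1).2 h.2, h.1.1, one_mul, one_mul,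
    log_one, neg_zero]

theorem finite_ordDiff (hK : IsFunctionField k K) (hg : IsGeometric k K)
    (hφ : ∀ P, LocRes.IsExpansionAt P.1 (φ P)) {u v : K} (hu : u ≠ 0)
    (hv : KaehlerDifferential.D k K v ≠ 0) :
    (Function.support fun P => LocRes.ordDiff (φ P) u v).Finite :=
  finite_ordDiff' hK (exists_separating hK hg) hφ hu hv

theorem isSeparable_coeffField' (hK : IsFunctionField k K) (hs : ∃ t : K, Transcendental k t ∧ FiniteDimensional (IntermediateField.adjoin k ({t} : Set K)) K ∧
      Algebra.IsSeparable (IntermediateField.adjoin k ({t} : Set K)) K) {P : Place k K}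
    {G : Type w} [Field G] [Algebra k G] [FiniteDimensional k G] {ψ : K →ₐ[k] G⸨X⸩}
    (hψ : LocRes.IsExpansionAt P.1 ψ) : Algebra.IsSeparable k G := by
  obtain ⟨t, ht, hfin, hsep⟩ := hs
  obtain ⟨H, hH⟩ := exists_isHasseFamily t ht
  have h0 : ∀ l : KaehlerDifferential k G →ₗ[G] G, l = 0 := fun l => by
    have := derivation_eq_zero_coeffField hψ hH (KaehlerDifferential.linearMapEquivDerivation k G l)
    simpa using this
  have : Subsingleton (KaehlerDifferential k G) := ⟨fun a b => by
    rw [← sub_eq_zero]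
    exact (Module.forall_dual_apply_eq_zero_iff G _).1 fun l => by rw [h0 l]; rfl⟩
  have : Algebra.FormallyUnramified k G := ⟨this⟩
  exact Algebra.FormallyUnramified.isSeparable k G

theorem isSeparable_coeffField (hK : IsFunctionField k K) (hg : IsGeometric k K) {P : Place k K}
    {G : Type w} [Field G] [Algebra k G] [FiniteDimensional k G] {ψ : K →ₐ[k] G⸨X⸩}
    (hψ : LocRes.IsExpansionAt P.1 ψ) : Algebra.IsSeparable k G :=
  isSeparable_coeffField' hK (exists_separating hK hg) hψ

theorem locRes_add {G : Type*} [Field G] [Algebra k G] (ψ : K →ₐ[k] G⸨X⸩) (a b v : K) :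
    LocRes.locRes ψ (a + b) v = LocRes.locRes ψ a v + LocRes.locRes ψ b v := by
  show Algebra.trace k G ((ψ (a + b) * _).coeff (-1)) = _
  rw [map_add, add_mul, HahnSeries.coeff_add, map_add]
  rfl

theorem locRes_smul {G : Type*} [Field G] [Algebra k G] (ψ : K →ₐ[k] G⸨X⸩) (c : k) (a v : K) :
    LocRes.locRes ψ (c • a) v = c * LocRes.locRes ψ a v := by
  show Algebra.trace k G ((ψ (c • a) * _).coeff (-1)) = _
  rw [Algebra.smul_def, map_mul, LocRes.map_algebraMap, mul_assoc, HahnSeries.C_apply,
    HahnSeries.coeff_single_zero_mul, ← Algebra.smul_def, map_smul, smul_eq_mul]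
  rfl

theorem mul_mem_adele (hK : IsFunctionField k K) (u : K) (a : adele k K) :
    (fun P => (a : Place k K → K) P * u) ∈ adele k K := by
  have := (show FF30.FF k K from hK.1).smul_mem_adele u a a.2
  simpa [mul_comm, Pi.smul_def] using this

/-- The functional `a ↦ ∑ Res_P(a_P u dv)`. -/
noncomputable def resW (hK : IsFunctionField k K) (hφ : ∀ P, LocRes.IsExpansionAt P.1 (φ P)) (u v : K) :
    Module.Dual k (adele k K) where
  toFun a := ∑ᶠ P, LocRes.locRes (φ P) ((a : Place k K → K) P * u) v
  map_add' a b := by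
    rw [← finsum_add_distrib (finite_locRes_ne_zero hK hφ (mul_mem_adele hK u a) v)
      (finite_locRes_ne_zero hK hφ (mul_mem_adele hK u b) v)]
    refine finsum_congr fun P => ?_
    rw [← locRes_add, ← add_mul]
    rfl
  map_smul' c a := by
    rw [RingHom.id_apply, smul_eq_mul, mul_finsum' _ _ (finite_locRes_ne_zero hK hφ (mul_mem_adele hK u a) v)]
    refine finsum_congr fun P => ?_
    rw [← locRes_smul, ← smul_mul_assoc]
    rfl

theorem resW_apply (hK : IsFunctionField k K) (hφ : ∀ P, LocRes.IsExpansionAt P.1 (φ P)) (u v : K)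
    (a : adele k K) :
    resW hK hφ u v a = ∑ᶠ P, LocRes.locRes (φ P) ((a : Place k K → K) P * u) v := rfl

variable [∀ P, FiniteDimensional k (F P)]

theorem isDivOf_resW' (hK : IsFunctionField k K) (hs : ∃ t : K, Transcendental k t ∧ FiniteDimensional (IntermediateField.adjoin k ({t} : Set K)) K ∧
      Algebra.IsSeparable (IntermediateField.adjoin k ({t} : Set K)) K)
    (hφ : ∀ P, LocRes.IsExpansionAt P.1 (φ P)) {u v : K} (hu : u ≠ 0)
    (hv : KaehlerDifferential.D k K v ≠ 0) {C : Divisor k K}
    (hC : ∀ P, C P = LocRes.ordDiff (φ P) u v) : IsDivOf (resW hK hφ u v) C := by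
  classical
  have hvC : ∀ P, Valued.v (φ P u * LocRes.D (F P) (φ P v)) = exp (-(C P)) := fun P => by
    rw [hC P, LocRes.ordDiff, neg_neg, exp_log (vDiff_ne_zero' hK hs hφ hu hv P)]
    rfl
  intro E
  constructor
  · intro hE P
    by_contra hlt
    rw [not_le] at hlt
    set m : ℤ := -1 - C P with hm
    set w := φ P u * LocRes.D (F P) (φ P v) with hw
    have hw0 := coeff_ne_zero_of_val_eq (hvC P)
    have : Algebra.IsSeparable k (F P) := isSeparable_coeffField' hK hs (hφ P)
    obtain ⟨α, hα⟩ : ∃ α : F P, Algebra.trace k (F P) α ≠ 0 := by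
      by_contra h
      simp only [not_exists, not_not] at h
      exact Algebra.trace_ne_zero k (F P) (LinearMap.ext h)
    obtain ⟨z, hz, hz'⟩ := exists_lead (hφ P) m (α / w.coeff (C P))
    let a : Place k K → K := Pi.single P z
    have haA : a ∈ adele k K := Filter.eventually_cofinite.2 ((Set.finite_singleton P).subset fun Q hQ => by
      by_contra hne
      exact hQ (by simp [a, Pi.single_eq_of_ne (show Q ≠ P from hne)]))
    have haE : a ∈ AD E := fun Q => by
      by_cases h : Q = P
      · subst h
        rw [show a Q = z by simp [a], ← (hφ Q).1, show E Q = -(-(E Q)) by ring, val_le_iff]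
        exact fun i hi => hz i (by omega)
      · simp [a, Pi.single_eq_of_ne h]
    have h0 := (Submodule.mem_dualAnnihilator _).1 hE ⟨a, haA⟩ (Submodule.mem_sup_left haE)
    rw [resW_apply, finsum_eq_single _ P fun Q hQ => by
      simp [a, Pi.single_eq_of_ne hQ, LocRes.locRes, LocRes.resExp]] at h0
    refine hα ?_
    rw [← h0, show (⟨a, haA⟩ : adele k K).1 P = z by simp [a]]
    show _ = Algebra.trace k (F P) ((φ P (z * u) * _).coeff (-1))
    rw [map_mul, mul_assoc, ← hw,
      coeff_mul_Icc hz (val_le_iff.1 (hvC P).le), show -1 - C P = m from rfl, Finset.Icc_self,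
      Finset.sum_singleton, hz', show -1 - m = C P by omega, div_mul_cancel₀ _ hw0]
  · intro hE
    refine (Submodule.mem_dualAnnihilator _).2 fun a ha => ?_
    obtain ⟨b, hb, _, ⟨x, rfl⟩, hbx⟩ := Submodule.mem_sup.1 (show (a : Place k K → K) ∈ _ from ha)
    rw [resW_apply]
    have hb0 : ∀ P, LocRes.locRes (φ P) (b P * u) v = 0 := fun P => by
      show Algebra.trace k (F P) ((φ P (b P * u) * _).coeff (-1)) = 0
      rw [map_mul, mul_assoc, (val_le_iff (e := 0)).1 ?_ (-1) (by omega), map_zero]
      rw [map_mul, hvC P, (hφ P).1]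
      refine (mul_le_mul' (hb P) le_rfl).trans ?_
      rw [← exp_add, exp_le_exp]
      have := hE P
      omega
    calc (∑ᶠ P, LocRes.locRes (φ P) ((a : Place k K → K) P * u) v)
        = ∑ᶠ P, LocRes.locRes (φ P) (x * u) v := finsum_congr fun P => by
          rw [← hbx, Pi.add_apply, add_mul, locRes_add, hb0 P, zero_add]
          rfl
      _ = 0 := residue_theorem hK hφ (x * u) v

theorem isDivOf_resW (hK : IsFunctionField k K) (hg : IsGeometric k K)
    (hφ : ∀ P, LocRes.IsExpansionAt P.1 (φ P)) {u v : K} (hu : u ≠ 0)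
    (hv : KaehlerDifferential.D k K v ≠ 0) {C : Divisor k K}
    (hC : ∀ P, C P = LocRes.ordDiff (φ P) u v) : IsDivOf (resW hK hφ u v) C :=
  isDivOf_resW' hK (exists_separating hK hg) hφ hu hv hC

/-- The statement about `u dv` as a Weil differential. -/
theorem exists_weil (hK : IsFunctionField k K) (hg : IsGeometric k K)
    (hφ : ∀ P, LocRes.IsExpansionAt P.1 (φ P)) {u v : K} (hu : u ≠ 0)
    (hv : KaehlerDifferential.D k K v ≠ 0) :
    ∃ C : Divisor k K, (∀ P, C P = LocRes.ordDiff (φ P) u v) ∧
      IsWeil (resW hK hφ u v) ∧ resW hK hφ u v ≠ 0 := by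
  classical
  let C : Divisor k K := Finsupp.ofSupportFinite _ (finite_ordDiff hK hg hφ hu hv)
  have hC : ∀ P, C P = LocRes.ordDiff (φ P) u v := fun P => rfl
  have hdiv := isDivOf_resW hK hg hφ hu hv hC
  refine ⟨C, hC, ⟨C, (hdiv C).2 le_rfl⟩, fun h0 => ?_⟩
  obtain ⟨P⟩ := (show FF30.FF k K from hK.1).nonempty_place
  have h1 := (hdiv (C + Finsupp.single P 1)).1 (h0 ▸ Submodule.zero_mem _) P
  simp at h1

end Groth.Agent.Res31
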